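import Mathlib.RingTheory.NoetherNormalization
import Mathlib.RingTheory.Trace.Basic
import Mathlib.FieldTheory.Minpoly.IsIntegrallyClosed
import Mathlib.FieldTheory.IsAlgClosed.Basic
import Mathlib.RingTheory.Filtration
import Mathlib.RingTheory.Localization.AtPrime.Basic
import Mathlib.RingTheory.Polynomial.UniqueFactorization
import Mathlib.Analysis.Complex.Polynomial.Basic
import Mathlib.Algebra.MvPolynomial.Funext
import Mathlib.RingTheory.Polynomial.RationalRoot
import Mathlib.RingTheory.IntegralClosure.IntegralRestrict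
import Mathlib.RingTheory.Algebraic.Basic
import Mathlib.Topology.Algebra.MvPolynomial
import Mathlib.RingTheory.Ideal.MinimalPrime.Noetherian
import Mathlib.RingTheory.MvPolynomial.Homogeneous
import Mathlib.RingTheory.Jacobson.Ring

/-!
# Vanishing order on complex points bounds the algebraic order

If a regular function is `O(|z|^N)` on the complex points near `χ₀`, it lies in the `k`-th power of
the maximal ideal, for `N` large with respect to `k`.
-/

set_option autoImplicit false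

open Filter Set Metric MvPolynomial
open scoped Topology

namespace AnStalkLib

/-- A polynomial in one variable which is `O(|t|^k)` at the origin has no terms of degree `< k`. -/
theorem coeff_eq_zero_of_isBigO {Q : Polynomial ℂ} {k : ℕ} {C : ℝ}
    (h : ∀ᶠ t in 𝓝 (0 : ℂ), ‖Q.eval t‖ ≤ C * ‖t‖ ^ k) (j : ℕ) (hj : j < k) : Q.coeff j = 0 := by
  induction k generalizing Q j with
  | zero => omega
  | succ k ih =>
    have h0 : Q.coeff 0 = 0 := by
      rw [Polynomial.coeff_zero_eq_eval_zero, ← norm_le_zero_iff]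
      simpa using h.self_of_nhds
    cases j with
    | zero => exact h0
    | succ j =>
      have hQ : Q = Polynomial.X * Q.divX := by
        conv_lhs => rw [← Polynomial.X_mul_divX_add Q, h0]
        simp
      have h' : ∀ᶠ t in 𝓝 (0 : ℂ), ‖Q.divX.eval t‖ ≤ C * ‖t‖ ^ k := by
        have h1 : ∀ᶠ t in 𝓝[≠] (0 : ℂ), ‖Q.divX.eval t‖ ≤ C * ‖t‖ ^ k := by
          filter_upwards [nhdsWithin_le_nhds h, self_mem_nhdsWithin] with t ht ht0
          have htp : 0 < ‖t‖ := norm_pos_iff.2 ht0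
          rw [hQ, Polynomial.eval_mul, Polynomial.eval_X, norm_mul, pow_succ] at ht
          nlinarith
        have h2 : ‖Q.divX.eval 0‖ ≤ C * ‖(0 : ℂ)‖ ^ k :=
          le_of_tendsto_of_tendsto (((Q.divX.continuous).norm.tendsto 0).mono_left nhdsWithin_le_nhds)
            ((Continuous.tendsto (by fun_prop : Continuous fun t : ℂ => C * ‖t‖ ^ k) 0).mono_left nhdsWithin_le_nhds) h1
        rw [eventually_nhdsWithin_iff] at h1
        exact h1.mono fun t ht => by
          rcases eq_or_ne t 0 with rfl | ht0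
          exacts [h2, ht ht0]
      rw [← Polynomial.coeff_divX]
      exact ih h' j (Nat.lt_of_succ_lt_succ hj)

/-- A polynomial which is `O(|v|^k)` at the origin lies in the `k`-th power of the ideal of the origin. -/
theorem mem_pow_of_isBigO {s : ℕ} {T : MvPolynomial (Fin s) ℂ} {k : ℕ} {C ρ : ℝ} (hρ : 0 < ρ)
    (h : ∀ v : Fin s → ℂ, ‖v‖ < ρ → ‖eval v T‖ ≤ C * ‖v‖ ^ k) :
    T ∈ Ideal.span (Set.range (X : Fin s → MvPolynomial (Fin s) ℂ)) ^ k := by
  classical
  have hz : ∀ i < k, homogeneousComponent i T = 0 := by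
    intro i hi
    refine MvPolynomial.funext fun v => ?_
    rw [map_zero]
    set Q : Polynomial ℂ := ∑ j ∈ Finset.range (T.totalDegree + 1),
      Polynomial.C (eval v (homogeneousComponent j T)) * Polynomial.X ^ j
    have hQ : ∀ t : ℂ, Q.eval t = eval (t • v) T := by
      intro t
      have hh : ∀ j, eval (t • v) (homogeneousComponent j T) = t ^ j * eval v (homogeneousComponent j T) := by
        intro j
        simp only [eval_eq, Finset.mul_sum]
        refine Finset.sum_congr rfl fun d hd => ?_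
        have hdj : ∑ a ∈ d.support, d a = j := by
          have := homogeneousComponent_isHomogeneous j T (mem_support_iff.1 hd)
          simpa [Finsupp.weight_apply, Finsupp.sum] using this
        simp only [Pi.smul_apply, smul_eq_mul, mul_pow, Finset.prod_mul_distrib, Finset.prod_pow_eq_pow_sum, hdj]
        ring
      conv_rhs => rw [← sum_homogeneousComponent T, map_sum]
      simp only [Q, Polynomial.eval_finsetSum, Polynomial.eval_mul, Polynomial.eval_C, Polynomial.eval_pow,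
        Polynomial.eval_X, hh]
      exact Finset.sum_congr rfl fun j _ => mul_comm _ _
    have hb : ∀ᶠ t in 𝓝 (0 : ℂ), ‖Q.eval t‖ ≤ C * ‖v‖ ^ k * ‖t‖ ^ k := by
      have hc : Tendsto (fun t : ℂ => ‖t • v‖) (𝓝 0) (𝓝 0) := Continuous.tendsto' (by fun_prop) _ _ (by simp)
      filter_upwards [hc.eventually (eventually_lt_nhds hρ)] with t ht
      rw [hQ, mul_assoc, ← mul_pow, mul_comm ‖v‖, ← norm_smul]
      exact h _ ht
    have hc := coeff_eq_zero_of_isBigO hb i hi
    simp only [Q, Polynomial.finsetSum_coeff, Polynomial.coeff_C_mul, Polynomial.coeff_X_pow, mul_ite, mul_one,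
      mul_zero, Finset.sum_ite_eq, Finset.mem_range] at hc
    split_ifs at hc with hi'
    · exact hc
    · rw [homogeneousComponent_eq_zero _ _ (by omega), map_zero]
  rw [T.as_sum]
  refine Ideal.sum_mem _ fun d hd => ?_
  have hdeg : k ≤ d.degree := by
    by_contra hlt
    have := congrArg (coeff d) (hz d.degree (by omega))
    rw [coeff_homogeneousComponent, if_pos rfl, coeff_zero] at this
    exact (mem_support_iff.1 hd) this
  rw [monomial_eq]
  refine Ideal.mul_mem_left _ _ (Ideal.pow_le_pow_right hdeg ?_)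
  rw [Finsupp.degree_apply, Finsupp.prod, ← Finset.prod_pow_eq_pow_sum]
  exact Ideal.prod_mem_prod fun i _ => Ideal.pow_mem_pow (Ideal.subset_span (Set.mem_range_self i)) _

variable {B : Type*} [CommRing B] [Algebra ℂ B] [Algebra.FiniteType ℂ B]

/-- A maximal ideal of a finitely generated algebra over `ℂ` is the kernel of a character. -/
theorem exists_character (M : Ideal B) [M.IsMaximal] : ∃ χ : B →ₐ[ℂ] ℂ, RingHom.ker χ = M := by
  let _ := Ideal.Quotient.field M
  haveI : Algebra.FiniteType ℂ (B ⧸ M) := .of_surjective (Ideal.Quotient.mkₐ ℂ M) Ideal.Quotient.mk_surjective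
  haveI : Module.Finite ℂ (B ⧸ M) := finite_of_finite_type_of_isJacobsonRing ℂ (B ⧸ M)
  let e : ℂ ≃ₐ[ℂ] (B ⧸ M) := AlgEquiv.ofBijective (Algebra.ofId ℂ (B ⧸ M))
    IsAlgClosed.algebraMap_bijective_of_isIntegral
  refine ⟨e.symm.toAlgHom.comp (Ideal.Quotient.mkₐ ℂ M), ?_⟩
  ext x
  simp [RingHom.mem_ker, Ideal.Quotient.eq_zero_iff_mem]

/-- The polynomial `p` is `O(|z|^N)` on the points near the origin of the coordinates `z`. -/
def IsBigOPts {n : ℕ} (z : Fin n → B) (p : B) (N : ℕ) : Prop :=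
  ∃ C r : ℝ, 0 < r ∧ ∀ χ : B →ₐ[ℂ] ℂ, ‖fun i => χ (z i)‖ < r → ‖χ p‖ ≤ C * ‖fun i => χ (z i)‖ ^ N

variable [IsDomain B] {n : ℕ}

theorem growth_domain (χ₀ : B →ₐ[ℂ] ℂ) (z : Fin n → B) (hz : ∀ i, χ₀ (z i) = 0) (k : ℕ) :
    ∃ N : ℕ, ∀ p : B, IsBigOPts z p N → ∃ q : B, χ₀ q ≠ 0 ∧ q * p ∈ (RingHom.ker χ₀) ^ k := by
  classical
  obtain ⟨s, g₁, hg₁, hfin₁⟩ := exists_finite_inj_algHom_of_fg ℂ B
  let a : Fin s → ℂ := fun j => χ₀ (g₁ (X j))
  let τ : MvPolynomial (Fin s) ℂ ≃ₐ[ℂ] MvPolynomial (Fin s) ℂ :=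
    AlgEquiv.ofAlgHom (aeval fun j => X j - C (a j)) (aeval fun j => X j + C (a j))
      (algHom_ext fun j => by simp) (algHom_ext fun j => by simp)
  let g : MvPolynomial (Fin s) ℂ →ₐ[ℂ] B := g₁.comp τ.toAlgHom
  have hg : Function.Injective g := hg₁.comp τ.injective
  have hfin : g.Finite := hfin₁.comp (AlgHom.Finite.of_surjective τ.toAlgHom τ.surjective)
  have hχg : ∀ j, χ₀ (g (X j)) = 0 := fun j => by
    simp [g, τ, a]
  letI := g.toRingHom.toAlgebra
  haveI : Module.Finite (MvPolynomial (Fin s) ℂ) B := hfin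
  haveI : IsScalarTower ℂ (MvPolynomial (Fin s) ℂ) B := IsScalarTower.of_algebraMap_eq fun c => (g.commutes c).symm
  haveI : Module.IsTorsionFree (MvPolynomial (Fin s) ℂ) B :=
    Module.isTorsionFree_iff_algebraMap_injective.2 hg
  haveI hint : Algebra.IsIntegral (MvPolynomial (Fin s) ℂ) B := Algebra.IsIntegral.of_finite _ _
  haveI : IsNoetherianRing B := Algebra.FiniteType.isNoetherianRing ℂ B
  have halg : ∀ f, algebraMap (MvPolynomial (Fin s) ℂ) B f = g f := fun _ => rfl
  -- ideals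
  set m₀ : Ideal (MvPolynomial (Fin s) ℂ) := Ideal.span (Set.range X) with hm₀
  set I : Ideal B := m₀.map g.toRingHom with hI
  set m : Ideal B := RingHom.ker χ₀ with hm
  haveI hmmax : m.IsMaximal := RingHom.ker_isMaximal_of_surjective χ₀ fun c => ⟨algebraMap ℂ B c, χ₀.commutes c⟩
  have hIspan : I = Ideal.span (Set.range fun j => g (X j)) := by
    rw [hI, hm₀, Ideal.map_span, ← Set.range_comp]; rfl
  have hIm : I ≤ m := by
    rw [hIspan, Ideal.span_le]; rintro _ ⟨j, rfl⟩; exact hχg j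
  -- primes over `m₀` are maximal
  have hm₀max : m₀.IsMaximal := by
    rw [hm₀, show (Set.range (X : Fin s → MvPolynomial (Fin s) ℂ)) = Set.range fun j => X j - C ((0 : Fin s → ℂ) j) by simp]
    have : Ideal.span (Set.range fun j => X j - C ((0 : Fin s → ℂ) j)) =
        RingHom.ker (eval (0 : Fin s → ℂ)) := by
      refine le_antisymm (Ideal.span_le.2 ?_) fun f hf => ?_
      · rintro _ ⟨j, rfl⟩; simp
      · rw [RingHom.mem_ker, eval_zero, constantCoeff_eq] at hf
        simp only [Pi.zero_apply, map_zero, sub_zero]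
        rw [f.as_sum]
        refine Ideal.sum_mem _ fun d hd => ?_
        have hd0 : d ≠ 0 := fun h => mem_support_iff.1 hd (h ▸ hf)
        obtain ⟨j, hj⟩ := Finsupp.ne_iff.1 hd0
        rw [monomial_eq]
        refine Ideal.mul_mem_left _ _ ?_
        rw [Finsupp.prod, ← Finset.prod_erase_mul _ _ (Finsupp.mem_support_iff.2 hj : j ∈ d.support)]
        exact Ideal.mul_mem_left _ _ (Ideal.pow_mem_of_mem _ (Ideal.subset_span (Set.mem_range_self j)) _ (Nat.pos_of_ne_zero hj))
    rw [this]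
    exact RingHom.ker_isMaximal_of_surjective (eval (0 : Fin s → ℂ)) fun c => ⟨C c, eval_C c⟩
  have hmax : ∀ P : Ideal B, P.IsPrime → I ≤ P → P.IsMaximal := by
    intro P hP hIP
    refine Ideal.isMaximal_of_isIntegral_of_isMaximal_comap (R := MvPolynomial (Fin s) ℂ) P ?_
    have : m₀ ≤ P.comap (algebraMap (MvPolynomial (Fin s) ℂ) B) := Ideal.map_le_iff_le_comap.1 hIP
    rwa [← hm₀max.eq_of_le (Ideal.comap_ne_top _ hP.ne_top) this]
  -- the element separating `m` from the other primes over `m₀`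
  have hfinP : (I.minimalPrimes).Finite := Ideal.finite_minimalPrimes_of_isNoetherianRing B I
  have hsep : ∀ P ∈ hfinP.toFinset.erase m, ∃ x, x ∈ P ∧ x ∉ m := fun P hP => by
    rw [Finset.mem_erase, Set.Finite.mem_toFinset] at hP
    have hPmax := hmax P hP.2.1.1 hP.2.1.2
    by_contra! hsub
    exact hP.1 (hPmax.eq_of_le hmmax.ne_top hsub)
  choose! xP hxP1 hxP2 using hsep
  set q : B := ∏ P ∈ hfinP.toFinset.erase m, xP P with hq
  have hqm : χ₀ q ≠ 0 := by
    rw [hq, map_prod]
    exact Finset.prod_ne_zero_iff.2 fun P hP h => hxP2 P hP h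
  have hzq : ∀ i, z i * q ∈ I.radical := fun i => by
    rw [← Ideal.sInf_minimalPrimes, Ideal.mem_sInf]
    intro P hP
    by_cases hPm : P = m
    · exact hPm ▸ Ideal.mul_mem_right _ _ (hz i)
    · exact Ideal.mul_mem_left _ _ (P.mem_of_dvd (Finset.dvd_prod_of_mem xP (Finset.mem_erase.2 ⟨hPm, hfinP.mem_toFinset.2 hP⟩))
        (hxP1 P (Finset.mem_erase.2 ⟨hPm, hfinP.mem_toFinset.2 hP⟩)))
  obtain ⟨e₀, he₀⟩ := Ideal.exists_radical_pow_le_of_fg I (IsNoetherian.noetherian _)
  set e := e₀ + 1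
  have hzqe : ∀ i, (z i * q) ^ e ∈ I := fun i =>
    Ideal.pow_le_pow_right (Nat.le_succ e₀) (Ideal.pow_mem_pow (hzq i) e) |> fun h => he₀ h
  -- boundedness over the unit polydisc
  set pr : (B →ₐ[ℂ] ℂ) → (Fin s → ℂ) := fun χ j => χ (g (X j)) with hpr
  have hev : ∀ (χ : B →ₐ[ℂ] ℂ) f, χ (g f) = eval (pr χ) f := fun χ f => by
    have : χ.comp g = aeval (pr χ) := algHom_ext fun j => by simp [hpr]
    rw [← coe_aeval_eq_eval, ← this]; rfl
  have hbdd : ∀ b : B, ∃ M : ℝ, 0 ≤ M ∧ ∀ χ : B →ₐ[ℂ] ℂ, ‖pr χ‖ ≤ 1 → ‖χ b‖ ≤ M := by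
    intro b
    obtain ⟨f, hf, hfb⟩ := hint.isIntegral b
    obtain ⟨M, hM⟩ := (isCompact_closedBall (0 : Fin s → ℂ) 1).exists_bound_of_continuousOn
      (f := fun v => fun i : Fin f.natDegree => eval v (f.coeff i))
      (continuous_pi fun i => MvPolynomial.continuous_eval _).continuousOn
    refine ⟨1 + f.natDegree * |M|, by positivity, fun χ hχ => ?_⟩
    set r := χ b
    by_contra! hlt
    have hr1 : 1 < ‖r‖ := lt_of_le_of_lt (le_add_of_nonneg_right (by positivity)) hlt
    have h0 : r ^ f.natDegree + ∑ i : Fin f.natDegree, eval (pr χ) (f.coeff i) * r ^ (i : ℕ) = 0 := by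
      have h1 := congrArg χ hfb
      rw [map_zero, Polynomial.eval₂_eq_sum_range, map_sum, Finset.sum_range_succ, hf.coeff_natDegree, add_comm] at h1
      simp only [map_mul, map_pow, map_one, one_mul, halg, hev] at h1
      rwa [Fin.sum_univ_eq_sum_range (fun i => eval (pr χ) (f.coeff i) * r ^ i)]
    rcases Nat.eq_zero_or_pos f.natDegree with hd | hd
    · rw [Finset.sum_eq_zero fun (i : Fin f.natDegree) _ => absurd i.2 (by omega), hd, pow_zero, add_zero] at h0
      exact one_ne_zero h0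
    have h2 : ‖r‖ ^ f.natDegree ≤ (f.natDegree * |M|) * ‖r‖ ^ (f.natDegree - 1) := by
      rw [← norm_pow, eq_neg_of_add_eq_zero_left h0, norm_neg]
      refine (norm_sum_le _ _).trans ((Finset.sum_le_card_nsmul _ _ (|M| * ‖r‖ ^ (f.natDegree - 1)) fun i _ => ?_).trans
        (le_of_eq (by simp [mul_assoc])))
      rw [norm_mul, norm_pow]
      refine mul_le_mul ?_ (pow_le_pow_right₀ hr1.le (Nat.le_sub_one_of_lt i.2)) (by positivity) (abs_nonneg M)
      exact (norm_le_pi_norm (fun i : Fin f.natDegree => eval (pr χ) (f.coeff i)) i).trans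
        ((hM _ (by simpa using hχ)).trans (le_abs_self M))
    have h3 : ‖r‖ ^ f.natDegree = ‖r‖ * ‖r‖ ^ (f.natDegree - 1) := by
      rw [← pow_succ', Nat.sub_add_cancel hd]
    rw [h3] at h2
    have := le_of_mul_le_mul_right h2 (by positivity)
    linarith
  -- the key estimate on `z q`
  have hC1 : ∀ i, ∃ C : ℝ, 0 ≤ C ∧ ∀ χ : B →ₐ[ℂ] ℂ, ‖pr χ‖ ≤ 1 → ‖χ (z i * q)‖ ^ e ≤ C * ‖pr χ‖ := by
    intro i
    have := hzqe i
    rw [hIspan, Ideal.mem_span_range_iff_exists_fun] at this
    obtain ⟨c, hc⟩ := this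
    choose M hM0 hM using fun j => hbdd (c j)
    refine ⟨∑ j, M j, Finset.sum_nonneg fun j _ => hM0 j, fun χ hχ => ?_⟩
    rw [← norm_pow, ← map_pow, ← hc, map_sum, Finset.sum_mul]
    refine norm_sum_le_of_le _ fun j _ => ?_
    rw [map_mul, norm_mul]
    exact mul_le_mul (hM j χ hχ) (norm_le_pi_norm (pr χ) j) (norm_nonneg _) (hM0 j)
  choose C1 hC1 hC1' using hC1
  set K1 := ∑ i, C1 i with hK1
  have hK1nn : 0 ≤ K1 := Finset.sum_nonneg fun i _ => hC1 i
  have hzqb : ∀ χ : B →ₐ[ℂ] ℂ, ‖pr χ‖ ≤ 1 → (‖χ q‖ * ‖fun i => χ (z i)‖) ^ e ≤ K1 * ‖pr χ‖ := by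
    intro χ hχ
    rcases isEmpty_or_nonempty (Fin n) with hn | hn
    · rw [Pi.norm_def]
      simp [e, mul_nonneg hK1nn (norm_nonneg _)]
    obtain ⟨i, hi⟩ := Finite.exists_max fun i => ‖χ (z i)‖
    have hle : ‖fun i => χ (z i)‖ = ‖χ (z i)‖ :=
      le_antisymm ((pi_norm_le_iff_of_nonneg (norm_nonneg _)).2 hi) (norm_le_pi_norm (fun i => χ (z i)) i)
    rw [hle, ← norm_mul, ← map_mul, mul_comm q]
    exact (hC1' i χ hχ).trans (mul_le_mul_of_nonneg_right
      (Finset.single_le_sum (fun j _ => hC1 j) (Finset.mem_univ i)) (norm_nonneg _))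
  -- fraction fields and traces
  let K := FractionRing (MvPolynomial (Fin s) ℂ)
  let L := FractionRing B
  letI : Algebra K L := FractionRing.liftAlgebra (MvPolynomial (Fin s) ℂ) L
  haveI : FiniteDimensional K L := Module.Finite.of_isLocalization (MvPolynomial (Fin s) ℂ) B (nonZeroDivisors (MvPolynomial (Fin s) ℂ))
  haveI : CharZero K := charZero_of_injective_algebraMap (algebraMap ℂ K).injective
  haveI : Algebra.IsSeparable K L := inferInstance
  have htrP : ∀ y : B, ∃ T : MvPolynomial (Fin s) ℂ, algebraMap _ K T = Algebra.trace K L (algebraMap B L y) :=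
    fun y => IsIntegrallyClosed.isIntegral_iff.1 (Algebra.isIntegral_trace ((hint.isIntegral y).map (IsScalarTower.toAlgHom (MvPolynomial (Fin s) ℂ) B L)))
  choose tr htr using htrP
  let Tr : B →ₗ[MvPolynomial (Fin s) ℂ] MvPolynomial (Fin s) ℂ :=
    { toFun := tr
      map_add' := fun y y' => IsFractionRing.injective _ K (by simp [htr, map_add])
      map_smul' := fun f y => IsFractionRing.injective _ K (by
        simp only [htr, RingHom.id_apply, smul_eq_mul, map_mul]
        rw [Algebra.smul_def f y, map_mul, ← IsScalarTower.algebraMap_apply,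
          IsScalarTower.algebraMap_apply _ K L, ← Algebra.smul_def, map_smul, smul_eq_mul]) }
  obtain ⟨d, b, hb⟩ := Module.Finite.exists_fin (R := MvPolynomial (Fin s) ℂ) (M := B)
  let Φ : B →ₗ[MvPolynomial (Fin s) ℂ] (Fin d → MvPolynomial (Fin s) ℂ) :=
    LinearMap.pi fun i => Tr.comp (LinearMap.mulRight _ (b i))
  have hΦ : ∀ y i, Φ y i = tr (y * b i) := fun _ _ => rfl
  have hΦinj : Function.Injective Φ := by
    refine (injective_iff_map_eq_zero Φ).2 fun y hy => ?_
    have h1 : ∀ w : B, tr (y * w) = 0 := by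
      intro w
      have hw : w ∈ Submodule.span (MvPolynomial (Fin s) ℂ) (Set.range b) := hb ▸ Submodule.mem_top
      induction hw using Submodule.span_induction with
      | mem x hx => obtain ⟨i, rfl⟩ := hx; rw [← hΦ, hy]; rfl
      | zero => rw [mul_zero]; exact map_zero Tr
      | add x x' _ _ h h' => rw [mul_add]; exact (map_add Tr _ _).trans (by rw [show Tr (y * x) = 0 from h, show Tr (y * x') = 0 from h', add_zero])
      | smul f x _ h => rw [mul_smul_comm]; exact (map_smul Tr f _).trans (by rw [show Tr (y * x) = 0 from h, smul_zero])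
    refine IsFractionRing.injective B L ?_
    rw [map_zero]
    refine (traceForm_nondegenerate K L).1 _ fun u => ?_
    obtain ⟨x, b', hb', rfl⟩ := IsFractionRing.div_surjective B u
    have hb0 : b' ≠ 0 := nonZeroDivisors.ne_zero hb'
    obtain ⟨f, hf, c, hc⟩ := (hint.isIntegral b').isAlgebraic.exists_nonzero_dvd hb'
    have hb'L : algebraMap B L b' ≠ 0 := (map_ne_zero_iff _ (IsFractionRing.injective B L)).2 hb0
    obtain ⟨w, hu⟩ : ∃ w : B, algebraMap _ L f * (algebraMap B L x / algebraMap B L b') = algebraMap B L w := by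
      refine ⟨x * c, ?_⟩
      rw [IsScalarTower.algebraMap_apply (MvPolynomial (Fin s) ℂ) B L, hc, map_mul, map_mul, mul_div_assoc',
        div_eq_iff hb'L]
      ring
    rw [Algebra.traceForm_apply]
    have h2 : algebraMap _ K (tr (y * w)) = algebraMap _ K f * Algebra.trace K L (algebraMap B L y * (algebraMap B L x / algebraMap B L b')) := by
      rw [htr, map_mul, ← hu, IsScalarTower.algebraMap_apply (MvPolynomial (Fin s) ℂ) K L, mul_left_comm,
        ← Algebra.smul_def (R := K), map_smul, smul_eq_mul]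
    rw [h1, map_zero] at h2
    exact (mul_eq_zero.1 h2.symm).resolve_left (by simpa using hf)
  -- value of the trace
  have hroot : ∀ (y : B) (v : Fin s → ℂ) (r : ℂ), ((minpoly (MvPolynomial (Fin s) ℂ) y).map (eval v)).IsRoot r →
      ∃ χ : B →ₐ[ℂ] ℂ, pr χ = v ∧ χ y = r := by
    intro y v r hr
    have hy : IsIntegral (MvPolynomial (Fin s) ℂ) y := hint.isIntegral y
    set S := Algebra.adjoin (MvPolynomial (Fin s) ℂ) ({y} : Set B)
    let φ : S →+* ℂ := (AdjoinRoot.lift (eval v) r (by rw [← Polynomial.eval_map]; exact hr)).comp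
      (minpoly.equivAdjoin hy).symm.toRingHom
    have hφa : ∀ f, φ (algebraMap _ S f) = eval v f := fun f => by simp [φ]
    have hφy : φ ⟨y, Algebra.self_mem_adjoin_singleton _ y⟩ = r := by
      have h := (minpoly.equivAdjoin hy).symm_apply_apply (AdjoinRoot.root _)
      rw [show (minpoly.equivAdjoin hy) (AdjoinRoot.root _) = ⟨y, Algebra.self_mem_adjoin_singleton _ y⟩ from
        Subtype.ext (by simp [minpoly.coe_equivAdjoin, minpoly.equivAdjoin])] at h
      simp only [φ, RingHom.coe_comp, Function.comp_apply]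
      refine Eq.trans (congrArg _ h) ?_
      rw [AdjoinRoot.lift_root]
    haveI : Algebra.IsIntegral S B := Algebra.IsIntegral.tower_top (R := MvPolynomial (Fin s) ℂ)
    haveI : (RingHom.ker φ).IsMaximal := RingHom.ker_isMaximal_of_surjective φ fun c =>
      ⟨algebraMap (MvPolynomial (Fin s) ℂ) S (C c), by rw [hφa, eval_C]⟩
    obtain ⟨M, hM, hMc⟩ := Ideal.exists_ideal_over_maximal_of_isIntegral (S := B) (RingHom.ker φ)
      (by rw [(RingHom.injective_iff_ker_eq_bot _).1 (Subtype.val_injective : Function.Injective (algebraMap S B))]; exact bot_le)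
    haveI := hM
    obtain ⟨χ, hχ⟩ := exists_character M
    have key : ∀ x : S, χ (x : B) = φ x := by
      intro x
      have hmem : x - algebraMap (MvPolynomial (Fin s) ℂ) S (C (φ x)) ∈ RingHom.ker φ := by
        rw [RingHom.mem_ker, map_sub, hφa, eval_C, sub_self]
      rw [← hMc] at hmem
      have h4 : χ ((x : B) - algebraMap (MvPolynomial (Fin s) ℂ) B (C (φ x))) = 0 := by
        rw [← RingHom.mem_ker, hχ]; exact hmem
      rw [map_sub, sub_eq_zero, halg, hev, eval_C] at h4
      exact h4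
    refine ⟨χ, funext fun j => ?_, (key ⟨y, Algebra.self_mem_adjoin_singleton _ y⟩).trans hφy⟩
    have := key (algebraMap (MvPolynomial (Fin s) ℂ) S (X j))
    rw [hφa, eval_X] at this
    exact this
  have htrb : ∀ (y : B) (v : Fin s → ℂ) (M : ℝ), 0 ≤ M → (∀ χ : B →ₐ[ℂ] ℂ, pr χ = v → ‖χ y‖ ≤ M) →
      ‖eval v (tr y)‖ ≤ Module.finrank K L * M := by
    intro y v M hM0 hM
    have hy : IsIntegral (MvPolynomial (Fin s) ℂ) y := hint.isIntegral y
    set μ := minpoly (MvPolynomial (Fin s) ℂ) y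
    set f := Module.finrank (IntermediateField.adjoin K ({algebraMap B L y} : Set L)) L
    have hT : tr y = (f : MvPolynomial (Fin s) ℂ) * -μ.nextCoeff := IsFractionRing.injective _ K (by
      rw [htr, trace_eq_finrank_mul_minpoly_nextCoeff, minpoly.isIntegrallyClosed_eq_field_fractions K L hy,
        Polynomial.nextCoeff_map (IsFractionRing.injective _ K), map_mul, map_neg, map_natCast])
    have hsum : eval v (-μ.nextCoeff) = ((μ.map (eval v)).roots).sum := by
      have h1 := (IsAlgClosed.splits (μ.map (eval v))).nextCoeff_eq_neg_sum_roots_of_monic ((minpoly.monic hy).map _)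
      rw [Polynomial.nextCoeff, (minpoly.monic hy).natDegree_map] at h1
      rw [map_neg, ← neg_inj, neg_neg, ← h1, Polynomial.nextCoeff]
      split_ifs <;> simp [μ, Polynomial.coeff_map]
    have hdeg : f * μ.natDegree = Module.finrank K L := by
      have h1 : μ.natDegree = (minpoly K (algebraMap B L y)).natDegree := by
        rw [minpoly.isIntegrallyClosed_eq_field_fractions K L hy, (minpoly.monic hy).natDegree_map]
      rw [h1, ← IntermediateField.adjoin.finrank (Algebra.IsIntegral.isIntegral _), mul_comm,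
        Module.finrank_mul_finrank]
    rw [hT, map_mul, map_natCast, norm_mul, Complex.norm_natCast, hsum, ← hdeg, Nat.cast_mul, mul_assoc]
    refine mul_le_mul_of_nonneg_left ?_ (Nat.cast_nonneg f)
    refine (norm_multiset_sum_le _).trans ?_
    have hcard : ((μ.map (eval v)).roots.map fun r => ‖r‖).card ≤ μ.natDegree := by
      rw [Multiset.card_map]
      exact (Polynomial.card_roots' _).trans Polynomial.natDegree_map_le
    refine (Multiset.sum_le_card_nsmul _ M fun x hx => ?_).trans ?_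
    · obtain ⟨r, hr, rfl⟩ := Multiset.mem_map.1 hx
      obtain ⟨χ, hχ, rfl⟩ := hroot y v r (Polynomial.isRoot_of_mem_roots hr)
      exact hM χ hχ
    · rw [nsmul_eq_mul]
      exact mul_le_mul_of_nonneg_right (by exact_mod_cast hcard) hM0
  -- Artin--Rees
  obtain ⟨c, hc⟩ := Ideal.exists_pow_inf_eq_pow_smul m₀ (LinearMap.range Φ)
  set k' := k + c
  refine ⟨e * k', fun p ⟨Cp, r, hr, hp⟩ => ⟨q ^ (e * k'), by rw [map_pow]; exact pow_ne_zero _ hqm, ?_⟩⟩
  obtain ⟨Mp, hMp0, hMp⟩ := hbdd p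
  set y := q ^ (e * k') * p
  set Cy : ℝ := max |Cp| (Mp / r ^ (e * k')) * K1 ^ k'
  have hy : ∀ χ : B →ₐ[ℂ] ℂ, ‖pr χ‖ ≤ 1 → ‖χ y‖ ≤ Cy * ‖pr χ‖ ^ k' := by
    intro χ hχ
    have hb1 : (‖χ q‖ * ‖fun i => χ (z i)‖) ^ (e * k') ≤ (K1 * ‖pr χ‖) ^ k' := by
      rw [pow_mul]; exact pow_le_pow_left₀ (by positivity) (hzqb χ hχ) k'
    have hb2 : ‖χ p‖ ≤ max |Cp| (Mp / r ^ (e * k')) * ‖fun i => χ (z i)‖ ^ (e * k') := by
      rcases lt_or_ge ‖fun i => χ (z i)‖ r with h | h
      · exact (hp χ h).trans (mul_le_mul_of_nonneg_right ((le_abs_self Cp).trans (le_max_left _ _)) (by positivity))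
      · calc ‖χ p‖ ≤ Mp / r ^ (e * k') * r ^ (e * k') := by
              rw [div_mul_cancel₀ _ (pow_ne_zero _ hr.ne')]; exact hMp χ hχ
          _ ≤ _ := mul_le_mul (le_max_right _ _) (pow_le_pow_left₀ hr.le h _) (by positivity)
              (le_max_of_le_left (abs_nonneg Cp))
    rw [map_mul, map_pow, norm_mul, norm_pow]
    calc ‖χ q‖ ^ (e * k') * ‖χ p‖ ≤ ‖χ q‖ ^ (e * k') *
          (max |Cp| (Mp / r ^ (e * k')) * ‖fun i => χ (z i)‖ ^ (e * k')) :=
          mul_le_mul_of_nonneg_left hb2 (by positivity)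
      _ = max |Cp| (Mp / r ^ (e * k')) * (‖χ q‖ * ‖fun i => χ (z i)‖) ^ (e * k') := by rw [mul_pow]; ring
      _ ≤ max |Cp| (Mp / r ^ (e * k')) * (K1 * ‖pr χ‖) ^ k' :=
          mul_le_mul_of_nonneg_left hb1 (le_max_of_le_left (abs_nonneg Cp))
      _ = Cy * ‖pr χ‖ ^ k' := by rw [mul_pow]; ring
  have hΦy : Φ y ∈ m₀ ^ k' • (⊤ : Submodule (MvPolynomial (Fin s) ℂ) (Fin d → MvPolynomial (Fin s) ℂ)) := by
    have hi : ∀ i, Φ y i ∈ m₀ ^ k' := by
      intro i
      obtain ⟨Mb, hMb0, hMb⟩ := hbdd (b i)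
      refine mem_pow_of_isBigO (C := Module.finrank K L * (Cy * Mb)) one_pos fun v hv => ?_
      rw [hΦ, mul_assoc (Module.finrank K L : ℝ)]
      refine htrb _ v _ ?_ fun χ hχ => ?_
      · have : 0 ≤ Cy := mul_nonneg (le_max_of_le_left (abs_nonneg Cp)) (pow_nonneg hK1nn k')
        positivity
      · subst hχ
        rw [map_mul, norm_mul, mul_right_comm Cy]
        exact mul_le_mul (hy χ hv.le) (hMb χ hv.le) (norm_nonneg _)
          (mul_nonneg (mul_nonneg (le_max_of_le_left (abs_nonneg Cp)) (pow_nonneg hK1nn k')) (by positivity))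
    rw [show Φ y = ∑ i, Φ y i • (Pi.single i 1 : Fin d → MvPolynomial (Fin s) ℂ) from pi_eq_sum_univ' _]
    exact Submodule.sum_mem _ fun i _ => Submodule.smul_mem_smul (hi i) Submodule.mem_top
  have hmem : Φ y ∈ (m₀ ^ k • ⊤ : Submodule _ B).map Φ := by
    rw [Submodule.map_smul'', Submodule.map_top]
    have h5 : Φ y ∈ m₀ ^ k' • ⊤ ⊓ LinearMap.range Φ := ⟨hΦy, LinearMap.mem_range_self Φ y⟩
    rw [hc k' (Nat.le_add_left c k), show k' - c = k from Nat.add_sub_cancel k c] at h5
    exact Submodule.smul_mono le_rfl inf_le_right h5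
  obtain ⟨y', hy', hyy⟩ := hmem
  rw [hΦinj hyy, Ideal.smul_top_eq_map] at hy'
  replace hy' : y ∈ (m₀ ^ k).map g.toRingHom := hy'
  rw [Ideal.map_pow] at hy'
  exact Ideal.pow_right_mono hIm k hy'

omit [IsDomain B]

omit [Algebra.FiniteType ℂ B] in
theorem IsBigOPts.mono {z : Fin n → B} {p : B} {N N' : ℕ} (h : IsBigOPts z p N) (hN : N' ≤ N) :
    IsBigOPts z p N' := by
  obtain ⟨C, r, hr, hC⟩ := h
  refine ⟨max C 0, min r 1, lt_min hr one_pos, fun χ hχ => (hC χ (lt_of_lt_of_le hχ (min_le_left _ _))).trans ?_⟩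
  exact mul_le_mul (le_max_left _ _) (pow_le_pow_of_le_one (norm_nonneg _)
    (lt_of_lt_of_le hχ (min_le_right _ _)).le hN) (by positivity) (le_max_right _ _)

/-- The reduced case. -/
theorem growth_reduced [IsReduced B] (χ₀ : B →ₐ[ℂ] ℂ) (z : Fin n → B) (hz : ∀ i, χ₀ (z i) = 0) (k : ℕ) :
    ∃ N : ℕ, ∀ p : B, IsBigOPts z p N → ∃ q : B, χ₀ q ≠ 0 ∧ q * p ∈ (RingHom.ker χ₀) ^ k := by
  classical
  haveI : IsNoetherianRing B := Algebra.FiniteType.isNoetherianRing ℂ B
  haveI : Finite (minimalPrimes B) := (minimalPrimes.finite_of_isNoetherianRing B).to_subtype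
  set m := RingHom.ker χ₀ with hm
  let ι : B →ₗ[B] ((P : minimalPrimes B) → B ⧸ (P : Ideal B)) := LinearMap.pi fun P => Submodule.mkQ (P : Ideal B)
  have hι : Function.Injective ι := by
    refine (injective_iff_map_eq_zero ι).2 fun x hx => ?_
    refine eq_of_sub_eq_zero (a := x) (b := 0) ?_
    rw [sub_zero, ← Ideal.mem_bot, ← (nilradical_eq_bot_iff.2 ‹_› : nilradical B = ⊥), nilradical,
      ← Ideal.sInf_minimalPrimes]
    exact Ideal.mem_sInf.2 fun {P} hP => (Submodule.Quotient.mk_eq_zero _).1 (congrFun hx ⟨P, hP⟩)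
  obtain ⟨c, hc⟩ := Ideal.exists_pow_inf_eq_pow_smul m (LinearMap.range ι)
  have hloc : ∀ P : minimalPrimes B, ∃ N : ℕ, ∀ p : B, IsBigOPts z p N →
      ∃ q : B, χ₀ q ≠ 0 ∧ q * p ∈ m ^ (k + c) ⊔ (P : Ideal B) := by
    rintro ⟨P, hP⟩
    haveI : P.IsPrime := hP.1.1
    by_cases hPm : P ≤ m
    · let π := Ideal.Quotient.mkₐ ℂ P
      haveI : Algebra.FiniteType ℂ (B ⧸ P) := .of_surjective π Ideal.Quotient.mk_surjective
      let χ' : (B ⧸ P) →ₐ[ℂ] ℂ := Ideal.Quotient.liftₐ P χ₀ fun a ha => hPm ha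
      obtain ⟨N, hN⟩ := growth_domain χ' (fun i => π (z i)) (fun i => hz i) (k + c)
      refine ⟨N, fun p ⟨C, r, hr, hC⟩ => ?_⟩
      obtain ⟨qb, hq, hqp⟩ := hN (π p) ⟨C, r, hr, fun χ hχ => hC (χ.comp π) hχ⟩
      obtain ⟨q, rfl⟩ := Ideal.Quotient.mk_surjective qb
      refine ⟨q, hq, ?_⟩
      have hker : RingHom.ker χ' = m.map (Ideal.Quotient.mk P) := by
        refine le_antisymm (fun y hy => ?_) (Ideal.map_le_iff_le_comap.2 fun y hy => hy)
        obtain ⟨b, rfl⟩ := Ideal.Quotient.mk_surjective y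
        exact Ideal.mem_map_of_mem _ hy
      have h1 : q * p ∈ ((m ^ (k + c)).map (Ideal.Quotient.mk P)).comap (Ideal.Quotient.mk P) := by
        rw [Ideal.mem_comap, Ideal.map_pow, ← hker, map_mul]; exact hqp
      rw [Ideal.comap_map_of_surjective _ Ideal.Quotient.mk_surjective, ← RingHom.ker_eq_comap_bot,
        Ideal.mk_ker] at h1
      exact h1
    · obtain ⟨q, hqP, hqm⟩ := SetLike.not_le_iff_exists.1 hPm
      exact ⟨0, fun p _ => ⟨q, hqm, Ideal.mem_sup_right (P.mul_mem_right p hqP)⟩⟩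
  choose N hN using hloc
  haveI := Fintype.ofFinite (minimalPrimes B)
  refine ⟨Finset.univ.sup N, fun p hp => ?_⟩
  choose q hq hqp using fun P => hN P p (hp.mono (Finset.le_sup (Finset.mem_univ P)))
  refine ⟨∏ P, q P, by rw [map_prod]; exact Finset.prod_ne_zero_iff.2 fun P _ => hq P, ?_⟩
  set Q := (∏ P, q P) * p with hQ
  have h1 : ι Q ∈ m ^ (k + c) • (⊤ : Submodule B ((P : minimalPrimes B) → B ⧸ (P : Ideal B))) := by
    have hcomp : ∀ P : minimalPrimes B, ∃ a ∈ m ^ (k + c), ι Q P = a • (1 : B ⧸ (P : Ideal B)) := by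
      intro P
      obtain ⟨a, ha, b, hb, hab⟩ := Submodule.mem_sup.1 (hqp P)
      refine ⟨(∏ R ∈ Finset.univ.erase P, q R) * a, Ideal.mul_mem_left _ _ ha, ?_⟩
      show Ideal.Quotient.mk (P : Ideal B) Q = Ideal.Quotient.mk (P : Ideal B) _ * 1
      rw [mul_one, Ideal.Quotient.eq, hQ, ← Finset.prod_erase_mul _ _ (Finset.mem_univ P), mul_assoc, ← mul_sub,
        ← hab, add_sub_cancel_left]
      exact Ideal.mul_mem_left _ _ hb
    choose a ha hae using hcomp
    rw [show ι Q = ∑ P, a P • (Pi.single P (1 : B ⧸ (P : Ideal B)) : (P : minimalPrimes B) → B ⧸ (P : Ideal B)) from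
      _root_.funext fun P => by
        rw [Finset.sum_apply, Finset.sum_eq_single P (fun R _ hR => by simp [Pi.single_eq_of_ne hR.symm]) (by simp)]
        simpa using hae P]
    exact Submodule.sum_mem _ fun P _ => Submodule.smul_mem_smul (ha P) Submodule.mem_top
  have h2 : ι Q ∈ (m ^ k • ⊤ : Submodule B B).map ι := by
    rw [Submodule.map_smul'', Submodule.map_top]
    have h5 : ι Q ∈ m ^ (k + c) • ⊤ ⊓ LinearMap.range ι := ⟨h1, LinearMap.mem_range_self ι Q⟩
    rw [hc _ (Nat.le_add_left c k), show k + c - c = k from Nat.add_sub_cancel k c] at h5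
    exact Submodule.smul_mono le_rfl inf_le_right h5
  obtain ⟨y, hy, hyy⟩ := h2
  rw [hι hyy, smul_eq_mul, ← Ideal.one_eq_top, mul_one] at hy
  exact hy

end AnStalkLib
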