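import Groth.Agent.AnStalkLib.StalkMap
import Groth.Agent.AnStalkLib.Growth
import Mathlib.RingTheory.Noetherian.Basic
import Mathlib.AlgebraicGeometry.Properties

/-!
# The algebraic and the analytic local ring have the same completion
-/

set_option autoImplicit false

open CategoryTheory AlgebraicGeometry TopologicalSpace Topology Filter An Opposite

namespace AnStalkLib

section holGermLocal

variable {E : Type*} [NormedAddCommGroup E] [NormedSpace ℂ E]

/-- The value of a germ at the origin. -/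
noncomputable def value : holGerm E →+* ℂ where
  toFun a := (HolGerm.exists_rep a).choose 0
  map_one' := by
    have h := (HolGerm.exists_rep (1 : holGerm E)).choose_spec.choose_spec
    exact (HolGerm.mk_eq_mk.1 (h.trans (show (1 : holGerm E) = HolGerm.mk (fun _ => 1)
      (Eventually.of_forall fun _ => differentiableAt_const _) from rfl))).self_of_nhds
  map_zero' := by
    have h := (HolGerm.exists_rep (0 : holGerm E)).choose_spec.choose_spec
    exact (HolGerm.mk_eq_mk.1 (h.trans (show (0 : holGerm E) = HolGerm.mk (fun _ => 0)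
      (Eventually.of_forall fun _ => differentiableAt_const _) from rfl))).self_of_nhds
  map_mul' a b := by
    obtain ⟨ha, hae⟩ := (HolGerm.exists_rep a).choose_spec
    obtain ⟨hb, hbe⟩ := (HolGerm.exists_rep b).choose_spec
    obtain ⟨hab, habe⟩ := (HolGerm.exists_rep (a * b)).choose_spec
    have h : (HolGerm.exists_rep (a * b)).choose =ᶠ[𝓝 0]
        (HolGerm.exists_rep a).choose * (HolGerm.exists_rep b).choose :=
      Germ.coe_eq.1 ((congrArg Subtype.val habe).trans (show (a.1 * b.1) = _ by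
        conv_lhs => rw [← hae, ← hbe]
        rfl))
    exact h.self_of_nhds
  map_add' a b := by
    obtain ⟨ha, hae⟩ := (HolGerm.exists_rep a).choose_spec
    obtain ⟨hb, hbe⟩ := (HolGerm.exists_rep b).choose_spec
    obtain ⟨hab, habe⟩ := (HolGerm.exists_rep (a + b)).choose_spec
    have h : (HolGerm.exists_rep (a + b)).choose =ᶠ[𝓝 0]
        (HolGerm.exists_rep a).choose + (HolGerm.exists_rep b).choose :=
      Germ.coe_eq.1 ((congrArg Subtype.val habe).trans (show (a.1 + b.1) = _ by
        conv_lhs => rw [← hae, ← hbe]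
        rfl))
    exact h.self_of_nhds

theorem value_mk {f : E → ℂ} (hf : DiffNear f 0) : value (HolGerm.mk f hf) = f 0 :=
  (HolGerm.mk_eq_mk.1 (HolGerm.exists_rep (HolGerm.mk f hf)).choose_spec.choose_spec).self_of_nhds

theorem isUnit_iff_value_ne_zero (a : holGerm E) : IsUnit a ↔ value a ≠ 0 := by
  refine ⟨fun h => (h.map value).ne_zero, fun h => ?_⟩
  obtain ⟨f, hf, rfl⟩ := HolGerm.exists_rep a
  exact HolGerm.isUnit_mk hf (value_mk hf ▸ h)

instance : Nontrivial (holGerm E) := RingHom.domain_nontrivial (value (E := E))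

instance : IsLocalRing (holGerm E) := IsLocalRing.of_nonunits_add fun a b ha hb => by
  rw [mem_nonunits_iff, isUnit_iff_value_ne_zero, not_not] at ha hb ⊢
  rw [map_add, ha, hb, add_zero]

/-- The coordinate germs. -/
noncomputable def coordGerm {n : ℕ} (i : Fin n) : holGerm (Fin n → ℂ) :=
  HolGerm.mk (fun z => z i) (Eventually.of_forall fun _ => differentiableAt_apply _ _)

theorem maximalIdeal_holGerm (n : ℕ) :
    IsLocalRing.maximalIdeal (holGerm (Fin n → ℂ)) = Ideal.span (Set.range coordGerm) := by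
  refine le_antisymm (fun a ha => ?_) (Ideal.span_le.2 ?_)
  · rw [IsLocalRing.mem_maximalIdeal, mem_nonunits_iff, isUnit_iff_value_ne_zero, not_not] at ha
    obtain ⟨H, hH, rfl⟩ := HolGerm.exists_rep a
    rw [value_mk] at ha
    obtain ⟨r, hr, hHr⟩ := Metric.eventually_nhds_iff_ball.1 hH
    obtain ⟨Hi, hHi, hdec⟩ := exists_hadamard hr fun z hz => (hHr z hz).differentiableWithinAt
    have hHi' : ∀ i, DiffNear (Hi i) 0 := fun i =>
      (Metric.isOpen_ball.eventually_mem (Metric.mem_ball_self (half_pos hr))).mono fun z hz =>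
        (hHi i).differentiableAt (Metric.isOpen_ball.mem_nhds hz)
    rw [show HolGerm.mk H hH = ∑ i, coordGerm i * HolGerm.mk (Hi i) (hHi' i) from Subtype.ext (by
      push_cast
      simp only [coordGerm, HolGerm.mk]
      simp only [← Germ.coe_mul, ← HolGerm.coe_sum]
      refine Germ.coe_eq.2 ((Metric.isOpen_ball.eventually_mem (Metric.mem_ball_self (half_pos hr))).mono fun z hz => ?_)
      rw [hdec z hz, ha, zero_add, Finset.sum_apply]
      rfl)]
    exact Ideal.sum_mem _ fun i _ => Ideal.mul_mem_right _ _ (Ideal.subset_span ⟨i, rfl⟩)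
  · rintro _ ⟨i, rfl⟩
    rw [SetLike.mem_coe, IsLocalRing.mem_maximalIdeal, mem_nonunits_iff, isUnit_iff_value_ne_zero, not_not]
    exact value_mk _

/-- Members of powers of the maximal ideal are of high order. -/
theorem exists_bound_of_mem_pow {n N : ℕ} {a : holGerm (Fin n → ℂ)}
    (ha : a ∈ Ideal.span (Set.range (coordGerm (n := n))) ^ N) :
    ∃ (C : ℝ) (f : (Fin n → ℂ) → ℂ) (hf : DiffNear f 0), HolGerm.mk f hf = a ∧ ∀ᶠ z in 𝓝 0, ‖f z‖ ≤ C * ‖z‖ ^ N := by
  induction N generalizing a with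
  | zero =>
    obtain ⟨f, hf, rfl⟩ := HolGerm.exists_rep a
    refine ⟨‖f 0‖ + 1, f, hf, rfl, ?_⟩
    simp only [pow_zero, mul_one]
    exact hf.self_of_nhds.continuousAt.norm.eventually (eventually_le_nhds (lt_add_one _))
  | succ N ih =>
    rw [pow_succ] at ha
    induction ha using Submodule.mul_induction_on' with
    | mem_mul_mem u hu v hv =>
      obtain ⟨C, f, hf, rfl, hC⟩ := ih hu
      obtain ⟨g, hg, rfl⟩ := HolGerm.exists_rep v
      have hgb : ∃ D : ℝ, ∀ᶠ z in 𝓝 0, ‖g z‖ ≤ D * ‖z‖ := by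
        rw [← maximalIdeal_holGerm, IsLocalRing.mem_maximalIdeal, mem_nonunits_iff, isUnit_iff_value_ne_zero,
          not_not, value_mk] at hv
        have h := hg.self_of_nhds.hasFDerivAt.isBigO_sub
        simp only [hv, sub_zero] at h
        obtain ⟨D, hD⟩ := h.bound
        exact ⟨D, hD⟩
      obtain ⟨D, hD⟩ := hgb
      refine ⟨C * D, f * g, (hf.and hg).mono fun y hy => hy.1.mul hy.2, rfl, ?_⟩
      filter_upwards [hC, hD] with z hz hz'
      rw [Pi.mul_apply, norm_mul]
      exact (mul_le_mul hz hz' (norm_nonneg _) ((norm_nonneg _).trans hz)).trans_eq (by ring)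
    | add u _ v _ hu hv =>
      obtain ⟨C, f, hf, rfl, hC⟩ := hu
      obtain ⟨D, g, hg, rfl, hD⟩ := hv
      refine ⟨C + D, f + g, (hf.and hg).mono fun y hy => hy.1.add hy.2, rfl, ?_⟩
      filter_upwards [hC, hD] with z hz hz'
      exact (norm_add_le _ _).trans ((add_le_add hz hz').trans_eq (by ring))

end holGermLocal

variable {X : Scheme.{0}} [X.Over SC]

instance nontrivial_anStalk (x : Pts X) : Nontrivial (anStalk x) := RingHom.domain_nontrivial (toGerm x)

namespace Chart

variable {x : Pts X} (c : Chart x)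

/-- The germ map at the point. -/
noncomputable def germ : Γ(X, c.U) →+* X.presheaf.stalk x.pt := (X.presheaf.germ c.U x.pt c.hx).hom

theorem isUnit_germ_iff (b : Γ(X, c.U)) : IsUnit (c.germ b) ↔ x.ev c.U c.hx b ≠ 0 :=
  (X.mem_basicOpen b x.pt c.hx).symm.trans (AnLib.mem_basicOpen_iff x c.hx b)

theorem exists_mul_germ (a : X.presheaf.stalk x.pt) :
    ∃ b s, x.ev c.U c.hx s ≠ 0 ∧ a * c.germ s = c.germ b := by
  letI := X.presheaf.algebra_section_stalk ⟨x.pt, c.hx⟩
  haveI := c.hU.isLocalization_stalk ⟨x.pt, c.hx⟩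
  obtain ⟨b, s, h⟩ := IsLocalization.exists_mk'_eq (c.hU.primeIdealOf ⟨x.pt, c.hx⟩).asIdeal.primeCompl a
  refine ⟨b, s.1, (c.isUnit_germ_iff s.1).1 ?_, ?_⟩
  · exact IsLocalization.map_units (X.presheaf.stalk x.pt) s
  · rw [← h]
    exact IsLocalization.mk'_spec _ b s

theorem mem_span_z {b : Γ(X, c.U)} (hb : x.ev c.U c.hx b = 0) : b ∈ Ideal.span (Set.range c.z) := by
  obtain ⟨p, rfl⟩ := c.surj b
  have key : ∀ p : MvPolynomial (Fin c.n) ℂ, MvPolynomial.eval₂Hom (AnLib.strOn c.U) c.z p -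
      AnLib.strOn c.U (MvPolynomial.eval 0 p) ∈ Ideal.span (Set.range c.z) := by
    intro p
    induction p using MvPolynomial.induction_on with
    | C r => simp
    | add p q hp hq =>
      rw [map_add, map_add, map_add, add_sub_add_comm]
      exact Ideal.add_mem _ hp hq
    | mul_X p i hp =>
      simp only [map_mul, MvPolynomial.eval_X, Pi.zero_apply, mul_zero, map_zero, sub_zero, MvPolynomial.eval₂Hom_X']
      exact Ideal.mul_mem_left _ _ (Ideal.subset_span ⟨i, rfl⟩)
  have h1 := c.evOn_eval₂ c.hx p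
  rw [AnLib.evOn_eq _ c.hx, hb, c.Z_self] at h1
  have := key p
  rwa [← h1, map_zero, sub_zero] at this

theorem maximalIdeal_stalk :
    IsLocalRing.maximalIdeal (X.presheaf.stalk x.pt) = Ideal.span (Set.range (c.germ ∘ c.z)) := by
  refine le_antisymm (fun a ha => ?_) (Ideal.span_le.2 ?_)
  · obtain ⟨b, s, hs, hab⟩ := c.exists_mul_germ a
    rw [IsLocalRing.mem_maximalIdeal, mem_nonunits_iff] at ha
    have hb : x.ev c.U c.hx b = 0 := by
      by_contra hb
      have h1 := (c.isUnit_germ_iff b).2 hb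
      rw [← hab] at h1
      exact ha (isUnit_of_mul_isUnit_left h1)
    have h2 : c.germ b ∈ Ideal.span (Set.range (c.germ ∘ c.z)) := by
      rw [Set.range_comp, ← Ideal.map_span]
      exact Ideal.mem_map_of_mem _ (c.mem_span_z hb)
    rw [← hab] at h2
    exact (Ideal.mul_unit_mem_iff_mem _ ((c.isUnit_germ_iff s).2 hs)).1 h2
  · rintro _ ⟨i, rfl⟩
    rw [SetLike.mem_coe, IsLocalRing.mem_maximalIdeal, mem_nonunits_iff, Function.comp_apply, c.isUnit_germ_iff,
      c.hz i]
    simp

theorem psi_coordGerm (i : Fin c.n) : c.psi (coordGerm i) = stalkHom x (c.germ (c.z i)) := by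
  refine toGerm_injective x ?_
  rw [c.toGerm_psi]
  exact (toGerm_stalkHom x c.U c.hx (c.z i)).symm

end Chart

variable [LocallyOfFiniteType (X ↘ SC)]

instance isLocalRing_anStalk (x : Pts X) : IsLocalRing (anStalk x) := by
  obtain ⟨c⟩ := exists_chart x
  exact IsLocalRing.of_surjective' c.psi c.psi_surjective

instance isNoetherianRing_anStalk (x : Pts X) : IsNoetherianRing (anStalk x) := by
  obtain ⟨c⟩ := exists_chart x
  exact isNoetherianRing_of_surjective _ _ c.psi c.psi_surjective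

/-- The maximal ideal of the analytic local ring is generated by the algebraic one. -/
theorem map_maximalIdeal (x : Pts X) :
    (IsLocalRing.maximalIdeal (X.presheaf.stalk x.pt)).map (stalkHom x) = IsLocalRing.maximalIdeal (anStalk x) := by
  obtain ⟨c⟩ := exists_chart x
  rw [← IsLocalRing.eq_maximalIdeal (I := (IsLocalRing.maximalIdeal (holGerm (Fin c.n → ℂ))).map c.psi),
    maximalIdeal_holGerm, c.maximalIdeal_stalk, Ideal.map_span, Ideal.map_span, ← Set.range_comp, ← Set.range_comp]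
  · congr 2
    exact funext fun i => (c.psi_coordGerm i).symm
  · refine (Ideal.map_eq_top_or_isMaximal_of_surjective _ c.psi_surjective (IsLocalRing.maximalIdeal.isMaximal _)).resolve_left ?_
    intro htop
    have h1 : (1 : anStalk x) ∈ (IsLocalRing.maximalIdeal (holGerm (Fin c.n → ℂ))).map c.psi := htop ▸ Submodule.mem_top
    obtain ⟨a, ha, ha1⟩ := (Ideal.mem_map_iff_of_surjective _ c.psi_surjective).1 h1
    have hu : IsUnit (1 - a) := IsLocalRing.isUnit_one_sub_self_of_mem_nonunits a ((IsLocalRing.mem_maximalIdeal a).1 ha)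
    have := hu.map c.psi
    rw [map_sub, map_one, ha1, sub_self] at this
    exact not_isUnit_zero this

theorem exists_sub_mem (x : Pts X) (o : anStalk x) :
    ∃ a : X.presheaf.stalk x.pt, stalkHom x a - o ∈ IsLocalRing.maximalIdeal (anStalk x) := by
  obtain ⟨c⟩ := exists_chart x
  obtain ⟨h, rfl⟩ := c.psi_surjective o
  refine ⟨c.germ (AnLib.strOn c.U (value h)), ?_⟩
  set r : holGerm (Fin c.n → ℂ) :=
    HolGerm.mk (fun _ => value h) (Eventually.of_forall fun _ => differentiableAt_const _) with hr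
  have h1 : c.psi r = stalkHom x (c.germ (AnLib.strOn c.U (value h))) := by
    refine toGerm_injective x ?_
    rw [c.toGerm_psi]
    refine Eq.trans ?_ (toGerm_stalkHom x c.U c.hx _).symm
    exact Germ.coe_eq.2 (c.eventually_mem.mono fun y hy =>
      ((AnLib.evOn_eq _ hy).trans (AnLib.ev_strOn y c.U hy _)).symm)
  rw [← h1, ← map_sub, IsLocalRing.mem_maximalIdeal, mem_nonunits_iff]
  have hm : r - h ∈ IsLocalRing.maximalIdeal (holGerm (Fin c.n → ℂ)) := by
    rw [IsLocalRing.mem_maximalIdeal, mem_nonunits_iff, isUnit_iff_value_ne_zero, not_not, map_sub, hr, value_mk,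
      sub_self]
  have h2 : c.psi (r - h) ∈ IsLocalRing.maximalIdeal (anStalk x) := by
    rw [maximalIdeal_holGerm] at hm
    rw [← map_maximalIdeal x, c.maximalIdeal_stalk, Ideal.map_span, ← Set.range_comp,
      show (stalkHom x) ∘ c.germ ∘ c.z = c.psi ∘ coordGerm from funext fun i => (c.psi_coordGerm i).symm,
      Set.range_comp, ← Ideal.map_span]
    exact Ideal.mem_map_of_mem _ hm
  exact (IsLocalRing.mem_maximalIdeal _).1 h2

theorem exists_pow_sub_mem (x : Pts X) (n d : ℕ) {o : anStalk x}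
    (ho : o ∈ IsLocalRing.maximalIdeal (anStalk x) ^ n) :
    ∃ a ∈ IsLocalRing.maximalIdeal (X.presheaf.stalk x.pt) ^ n,
      stalkHom x a - o ∈ IsLocalRing.maximalIdeal (anStalk x) ^ (n + d) := by
  induction d with
  | zero => exact ⟨0, Submodule.zero_mem _, by rw [map_zero, zero_sub, add_zero]; exact neg_mem ho⟩
  | succ d ih =>
    obtain ⟨a, ha, hao⟩ := ih
    set M := IsLocalRing.maximalIdeal (anStalk x)
    set m := IsLocalRing.maximalIdeal (X.presheaf.stalk x.pt)
    have hmM : M ^ (n + d) = (m ^ (n + d)).map (stalkHom x) := by rw [Ideal.map_pow, map_maximalIdeal]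
    have key : ∀ e ∈ M ^ (n + d), ∃ b ∈ m ^ (n + d), stalkHom x b - e ∈ M ^ (n + (d + 1)) := by
      intro e he
      rw [hmM] at he
      refine Submodule.span_induction ?_ ?_ ?_ ?_ he
      · rintro _ ⟨b, hb, rfl⟩
        exact ⟨b, hb, by rw [sub_self]; exact Submodule.zero_mem _⟩
      · exact ⟨0, Submodule.zero_mem _, by rw [map_zero, sub_zero]; exact Submodule.zero_mem _⟩
      · rintro e e' _ _ ⟨b, hb, he⟩ ⟨b', hb', he'⟩
        refine ⟨b + b', add_mem hb hb', ?_⟩
        rw [map_add, add_sub_add_comm]; exact add_mem he he'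
      · rintro r e he ⟨b, hb, hbe⟩
        obtain ⟨t, ht⟩ := exists_sub_mem x r
        refine ⟨t * b, Ideal.mul_mem_left _ _ hb, ?_⟩
        have hb' : stalkHom x b ∈ M ^ (n + d) := hmM ▸ Ideal.mem_map_of_mem _ hb
        rw [show stalkHom x (t * b) - r • e = (stalkHom x t - r) * stalkHom x b + r * (stalkHom x b - e) by
          rw [map_mul, smul_eq_mul]; ring]
        refine add_mem ?_ (Ideal.mul_mem_left _ _ hbe)
        rw [← add_assoc, pow_succ']
        exact Ideal.mul_mem_mul ht hb'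
    obtain ⟨b, hb, hbe⟩ := key _ hao
    refine ⟨a - b, sub_mem ha (Ideal.pow_le_pow_right (Nat.le_add_right n d) hb), ?_⟩
    rw [map_sub, show stalkHom x a - stalkHom x b - o = -(stalkHom x b - (stalkHom x a - o)) by ring]
    exact neg_mem hbe

variable [IsReduced X]

theorem exists_order (x : Pts X) (k : ℕ) : ∃ N : ℕ, ∀ a : X.presheaf.stalk x.pt,
    stalkHom x a ∈ IsLocalRing.maximalIdeal (anStalk x) ^ N → a ∈ IsLocalRing.maximalIdeal (X.presheaf.stalk x.pt) ^ k := by
  obtain ⟨c⟩ := exists_chart x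
  letI := (AnLib.strOn (X := X) c.U).toAlgebra
  haveI : Algebra.FiniteType ℂ Γ(X, c.U) := AnLib.finiteType_strOn c.hU
  let χ₀ : Γ(X, c.U) →ₐ[ℂ] ℂ :=
    { AnLib.evHom x c.U c.hx with commutes' := fun r => AnLib.ev_strOn x c.U c.hx r }
  obtain ⟨N, hN⟩ := growth_reduced χ₀ c.z c.hz k
  refine ⟨N, fun a ha => ?_⟩
  obtain ⟨b, s, hs, hab⟩ := c.exists_mul_germ a
  have hb : stalkHom x (c.germ b) ∈ IsLocalRing.maximalIdeal (anStalk x) ^ N := by
    rw [← hab, map_mul]; exact Ideal.mul_mem_right _ _ ha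
  rw [← map_maximalIdeal x, c.maximalIdeal_stalk, Ideal.map_span, ← Set.range_comp,
    show (stalkHom x) ∘ c.germ ∘ c.z = c.psi ∘ coordGerm from funext fun i => (c.psi_coordGerm i).symm,
    Set.range_comp, ← Ideal.map_span, ← Ideal.map_pow] at hb
  obtain ⟨h, hh, hhb⟩ := (Ideal.mem_map_iff_of_surjective _ c.psi_surjective).1 hb
  obtain ⟨C, f, hf, rfl, hC⟩ := exists_bound_of_mem_pow hh
  have h1 : (↑(f ∘ c.Z) : Germ (𝓝 x) ℂ) = ↑(AnLib.evOn c.U b) := by
    rw [← c.omega_mk hf, ← c.toGerm_psi, hhb]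
    exact toGerm_stalkHom x c.U c.hx b
  have h2 : ∀ᶠ y in 𝓝 x, ‖AnLib.evOn c.U b y‖ ≤ C * ‖c.Z y‖ ^ N := by
    filter_upwards [Germ.coe_eq.1 h1, c.tendsto_Z.eventually hC] with y hy hy'
    rw [← hy]; exact hy'
  have h3 : IsBigOPts c.z b N := by
    rw [c.nhds_eq, eventually_inf_principal, eventually_comap] at h2
    obtain ⟨r, hr, hr'⟩ := Metric.eventually_nhds_iff_ball.1 h2
    refine ⟨C, r, hr, fun χ hχ => ?_⟩
    have hχc : ∀ t, χ (AnLib.strOn c.U t) = t := fun t => χ.commutes t
    set y := AnLib.ofHom c.hU χ.toRingHom hχc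
    have hy : y.pt ∈ c.U := AnLib.pt_ofHom c.hU χ.toRingHom hχc
    have hev : ∀ f, AnLib.evOn c.U f y = χ f := fun f =>
      (AnLib.evOn_eq _ hy).trans (AnLib.ev_ofHom c.hU χ.toRingHom hχc f)
    have hZ : c.Z y = fun i => χ (c.z i) := funext fun i => hev _
    have := hr' (c.Z y) (by rw [mem_ball_zero_iff, hZ]; exact hχ) y rfl hy
    rwa [hev, hZ] at this
  obtain ⟨q, hq, hqb⟩ := hN b h3
  have hker : RingHom.ker χ₀ ≤ Ideal.span (Set.range c.z) := fun t ht => c.mem_span_z ht
  have h4 : c.germ q * c.germ b ∈ IsLocalRing.maximalIdeal (X.presheaf.stalk x.pt) ^ k := by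
    rw [c.maximalIdeal_stalk, Set.range_comp, ← Ideal.map_span, ← Ideal.map_pow, ← map_mul]
    exact Ideal.mem_map_of_mem _ (Ideal.pow_right_mono hker k hqb)
  have h5 := (Ideal.unit_mul_mem_iff_mem _ ((c.isUnit_germ_iff q).2 hq)).1 h4
  rw [← hab] at h5
  exact (Ideal.mul_unit_mem_iff_mem _ ((c.isUnit_germ_iff s).2 hs)).1 h5

theorem mem_pow_of_stalkHom_mem_pow (x : Pts X) (n : ℕ) {a : X.presheaf.stalk x.pt}
    (ha : stalkHom x a ∈ IsLocalRing.maximalIdeal (anStalk x) ^ n) :
    a ∈ IsLocalRing.maximalIdeal (X.presheaf.stalk x.pt) ^ n := by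
  obtain ⟨N, hN⟩ := exists_order x n
  obtain ⟨b, hb, hba⟩ := exists_pow_sub_mem x n N ha
  rw [← map_sub] at hba
  have h1 := hN (b - a) (Ideal.pow_le_pow_right (Nat.le_add_left N n) hba)
  rw [show a = b - (b - a) by ring]
  exact sub_mem hb h1

end AnStalkLib
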