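import Groth.Agent.AnStalkLib.Square
import Groth.Agent.FlatLib.FlatLocusScheme
import Mathlib.RingTheory.Unramified.LocalRing
import Mathlib.RingTheory.RingHom.Unramified
import Mathlib.AlgebraicGeometry.Morphisms.FormallyUnramified

/-!
# Flat and unramified morphisms detected on analytic local rings
-/

set_option autoImplicit false

open CategoryTheory AlgebraicGeometry FlatLib TopologicalSpace Topology An Opposite IsLocalRing

namespace AnStalkLib

variable {X Y : Scheme.{0}} [X.Over SC] [Y.Over SC] [LocallyOfFiniteType (X ↘ SC)]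
  [LocallyOfFiniteType (Y ↘ SC)] (f : X ⟶ Y) [f.IsOver SC]

theorem flat_iff_closedPoints : Flat f ↔ ∀ x : Pts X, (f.stalkMap x.pt).hom.Flat := by
  refine ⟨fun h x => Flat.stalkMap f x.pt, fun h => Flat.of_stalkMap (f := f) fun z => ?_⟩
  by_contra hz
  haveI := AnLib.lfp_of_over f
  obtain ⟨p, hp⟩ := AnLib.exists_pt_mem (Z := {z : X | (f.stalkMap z).hom.Flat}ᶜ) ⟨z, hz⟩
    (isOpen_setOf_flat_stalkMap f).isClosed_compl.isLocallyClosed
  exact hp (h p)

variable [IsReduced X] [IsReduced Y]

/-- The residue fields at complex points are `ℂ`. -/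
theorem exists_const_sub_mem (x : Pts X) (a : X.presheaf.stalk x.pt) (c : Chart x) :
    ∃ r : ℂ, a - c.germ (AnLib.strOn c.U r) ∈ maximalIdeal (X.presheaf.stalk x.pt) := by
  obtain ⟨b, s, hs, hab⟩ := c.exists_mul_germ a
  refine ⟨x.ev c.U c.hx b / x.ev c.U c.hx s, ?_⟩
  set r := x.ev c.U c.hx b / x.ev c.U c.hx s
  have h1 : c.germ (b - AnLib.strOn c.U r * s) ∈ maximalIdeal (X.presheaf.stalk x.pt) := by
    rw [IsLocalRing.mem_maximalIdeal, mem_nonunits_iff, c.isUnit_germ_iff, not_not]
    show AnLib.evHom x c.U c.hx _ = 0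
    rw [map_sub, map_mul]
    show x.ev c.U c.hx b - x.ev c.U c.hx (AnLib.strOn c.U r) * x.ev c.U c.hx s = 0
    rw [AnLib.ev_strOn]
    simp only [r, div_mul_cancel₀ _ hs, sub_self]
  rw [map_sub, map_mul, ← hab, ← sub_mul] at h1
  exact (Ideal.mul_unit_mem_iff_mem _ ((c.isUnit_germ_iff s).2 hs)).1 h1

theorem exists_algStalkMap_sub_mem (x : Pts X) (a : X.presheaf.stalk x.pt) :
    ∃ b, a - algStalkMap f x b ∈ maximalIdeal (X.presheaf.stalk x.pt) := by
  obtain ⟨c⟩ := exists_chart x
  obtain ⟨r, hr⟩ := exists_const_sub_mem x a c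
  refine ⟨Y.presheaf.germ ⊤ (Pts.map f x).pt trivial (strHom Y r), ?_⟩
  have h1 : algStalkMap f x (Y.presheaf.germ ⊤ (Pts.map f x).pt trivial (strHom Y r)) =
      c.germ (AnLib.strOn c.U r) := by
    rw [show algStalkMap f x (Y.presheaf.germ ⊤ _ trivial (strHom Y r)) =
      X.presheaf.germ ⊤ x.pt trivial (f.appTop (strHom Y r)) from Scheme.Hom.germ_stalkMap_apply f ⊤ x.pt trivial _]
    rw [show f.appTop (strHom Y r) = strHom X r by
      show f.appTop ((Y ↘ SC).appTop _) = (X ↘ SC).appTop _
      rw [← CategoryTheory.comp_apply, ← Scheme.Hom.comp_appTop, comp_over f (S := SC)]]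
    exact (X.presheaf.germ_res_apply (homOfLE (le_top : c.U ≤ ⊤)) x.pt c.hx (strHom X r)).symm
  rw [h1]
  exact hr

theorem map_max_of_hom {A B : Type} [CommRing A] [CommRing B] [IsLocalRing A] [IsLocalRing B] (φ : A →+* B)
    (hl : IsLocalHom φ) (he : φ.EssFiniteType) (hu : φ.FormallyUnramified) :
    (maximalIdeal A).map φ = maximalIdeal B := by
  algebraize [φ]
  haveI : IsLocalHom (algebraMap A B) := hl
  exact Algebra.FormallyUnramified.map_maximalIdeal

theorem formallyUnramified_hom {A B : Type} [CommRing A] [CommRing B] [IsLocalRing A] [IsLocalRing B] (φ : A →+* B)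
    (hl : IsLocalHom φ) (he : φ.EssFiniteType) (hres : ∀ a : B, ∃ b : A, a - φ b ∈ maximalIdeal B)
    (h : (maximalIdeal A).map φ = maximalIdeal B) : φ.FormallyUnramified := by
  algebraize [φ]
  haveI : IsLocalHom (algebraMap A B) := hl
  haveI : Algebra.IsSeparable (ResidueField A) (ResidueField B) := ⟨fun u => by
    obtain ⟨a, rfl⟩ := IsLocalRing.residue_surjective u
    obtain ⟨b, hb⟩ := hres a
    rw [show residue _ a = algebraMap (ResidueField A) (ResidueField B) (residue _ b) from (Ideal.Quotient.eq).2 hb]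
    exact isSeparable_algebraMap _⟩
  exact Algebra.FormallyUnramified.of_map_maximalIdeal h

theorem map_max_of_formallyUnramified [FormallyUnramified f] (x : Pts X) :
    (maximalIdeal (Y.presheaf.stalk (Pts.map f x).pt)).map (algStalkMap f x) =
      maximalIdeal (X.presheaf.stalk x.pt) := by
  haveI := AnLib.lft_of_over f
  exact map_max_of_hom _ (isLocalHom_algStalkMap f x) (LocallyOfFiniteType.stalkMap f x.pt)
    (FormallyUnramified.stalkMap f x.pt)

theorem formallyUnramified_stalkMap_of_map_max (x : Pts X)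
    (h : (maximalIdeal (Y.presheaf.stalk (Pts.map f x).pt)).map (algStalkMap f x) =
      maximalIdeal (X.presheaf.stalk x.pt)) : (f.stalkMap x.pt).hom.FormallyUnramified := by
  haveI := AnLib.lft_of_over f
  exact formallyUnramified_hom (algStalkMap f x) (isLocalHom_algStalkMap f x)
    (LocallyOfFiniteType.stalkMap f x.pt) (exists_algStalkMap_sub_mem f x) h

theorem formallyUnramified_iff_map_max : FormallyUnramified f ↔ ∀ x : Pts X,
    (maximalIdeal (Y.presheaf.stalk (Pts.map f x).pt)).map (algStalkMap f x) =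
      maximalIdeal (X.presheaf.stalk x.pt) := by
  refine ⟨fun h x => map_max_of_formallyUnramified f x, fun h => ?_⟩
  refine HasRingHomProperty.of_stalkMap RingHom.FormallyUnramified.ofLocalizationPrime fun z => ?_
  obtain ⟨p, hp⟩ := AnLib.exists_pt_mem (Z := closure {z}) ⟨z, subset_closure rfl⟩ isClosed_closure.isLocallyClosed
  have hs : z ⤳ p.pt := specializes_iff_mem_closure.2 hp
  obtain ⟨U, hU, hpU, -⟩ := exists_isAffineOpen_mem_and_subset (x := p.pt) (U := ⊤) trivial
  have hzU : z ∈ U := hs.mem_open U.2 hpU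
  have hloc : (X.presheaf.stalkSpecializes hs).hom.FormallyUnramified := by
    refine RingHom.FormallyUnramified.of_comp (f := (X.presheaf.germ U p.pt hpU).hom) ?_
    rw [← CommRingCat.hom_comp, TopCat.Presheaf.germ_stalkSpecializes]
    letI := X.presheaf.algebra_section_stalk ⟨z, hzU⟩
    haveI := hU.isLocalization_stalk ⟨z, hzU⟩
    exact RingHom.formallyUnramified_algebraMap.2
      (Algebra.FormallyUnramified.of_isLocalization (hU.primeIdealOf ⟨z, hzU⟩).asIdeal.primeCompl)
  refine RingHom.FormallyUnramified.of_comp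
    (f := (Y.presheaf.stalkSpecializes (hs.map f.continuous)).hom) ?_
  rw [← CommRingCat.hom_comp, Scheme.Hom.stalkSpecializes_stalkMap f _ _ hs, CommRingCat.hom_comp]
  exact RingHom.FormallyUnramified.stableUnderComposition _ _ (formallyUnramified_stalkMap_of_map_max f p (h p)) hloc

end AnStalkLib
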