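import Groth.Agent.AnStalkLib.Criteria
import Groth.Agent.AnLib.EtaleLH
import Mathlib.Analysis.Calculus.Deriv.Polynomial
import Mathlib.Analysis.Calculus.Deriv.Shift

/-!
# Étale morphisms induce bijections of analytic local rings
-/

set_option autoImplicit false

open CategoryTheory AlgebraicGeometry TopologicalSpace Topology Filter An Opposite Polynomial

namespace AnStalkLib

variable {X Y : Scheme.{0}} [X.Over SC] [Y.Over SC] [LocallyOfFiniteType (X ↘ SC)]
  [LocallyOfFiniteType (Y ↘ SC)] [IsReduced X] [IsReduced Y] (f : X ⟶ Y) [f.IsOver SC] [Etale f]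

omit [LocallyOfFiniteType (X ↘ SC)] [IsReduced X] [IsReduced Y] in
theorem injective_anStalkMap (x : Pts X) : Function.Injective (anStalkMap f x) := by
  refine (injective_iff_map_eq_zero _).2 fun o ho => toGerm_injective _ ?_
  have h := toGerm_anStalkMap f x o
  rw [ho, map_zero] at h
  rw [map_zero]
  revert h
  refine Germ.inductionOn (toGerm (Pts.map f x) o) fun φ h => ?_
  exact Germ.coe_eq.2 ((Filter.Eventually.filter_mono (AnLib.nhds_le_map f x)
    (eventually_map.2 ((Germ.coe_eq.1 h).mono fun y hy => hy.symm))))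

omit [IsReduced X] [IsReduced Y] in
/-- Near a point, coordinates on the source are holomorphic in coordinates of the image. -/
theorem exists_inverse_coords (x : Pts X) (cX : Chart x) (cY : Chart (Pts.map f x)) (i : Fin cX.n) :
    ∃ K : (Fin cY.n → ℂ) → ℂ, DiffNear K 0 ∧ ∀ᶠ y in 𝓝 x, cX.Z y i = K (cY.Z (Pts.map f y)) := by
  obtain ⟨V, U, e, hV, hU, hxU, hstd⟩ := AnLib.exists_standardEtale f x.pt
  letI := (f.appLE V U e).hom.toAlgebra
  obtain ⟨P⟩ := hstd.nonempty_standardEtalePresentation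
  have hmem : ∀ {z : Pts X}, z.pt ∈ U → (Pts.map f z).pt ∈ V := fun {z} hz => by rw [Pts.pt_map]; exact e hz
  have hU' : ∀ᶠ y in 𝓝 x, y.pt ∈ U := (Pts.isOpen_preimage_pt U).eventually_mem hxU
  have hmapZ : Tendsto (fun y => cY.Z (Pts.map f y)) (𝓝 x) (𝓝 0) :=
    cY.tendsto_Z.comp ((Pts.continuous_map f).tendsto x)
  choose H hH hHev using fun a : Γ(Y, V) => cY.exists_hol_evOn a (hmem hxU)
  have hH' : ∀ a, ∀ᶠ y in 𝓝 x, AnLib.evOn V a (Pts.map f y) = H a (cY.Z (Pts.map f y)) := fun a =>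
    ((Pts.continuous_map f).tendsto x).eventually (hHev a)
  set r : Pts X → ℂ := AnLib.evOn U P.x with hr
  set r0 : ℂ := r x with hr0
  -- polynomials in the root, expressed in the coordinates
  let ev : Γ(Y, V)[X] → (Fin cY.n → ℂ) × ℂ → ℂ := fun p w =>
    ∑ j ∈ Finset.range (p.natDegree + 1), H (p.coeff j) w.1 * (r0 + w.2) ^ j
  have hevd : ∀ p, DiffNear (ev p) 0 := fun p => by
    have h1 : ∀ᶠ w in 𝓝 ((0, 0) : (Fin cY.n → ℂ) × ℂ), ∀ j ∈ Finset.range (p.natDegree + 1),
        DifferentiableAt ℂ (H (p.coeff j)) w.1 := by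
      refine (Finset.eventually_all _).2 fun j _ => ?_
      exact (continuous_fst.tendsto' ((0, 0) : (Fin cY.n → ℂ) × ℂ) 0 rfl).eventually (hH (p.coeff j))
    exact h1.mono fun w hw => DifferentiableAt.fun_sum fun j hj =>
      ((hw j hj).comp w (f := Prod.fst) differentiableAt_fst).fun_mul (by fun_prop)
  have hevp : ∀ p, ∀ᶠ y in 𝓝 x, AnLib.evOn U (Polynomial.aeval P.x p) y =
      ev p (cY.Z (Pts.map f y), r y - r0) := by
    intro p
    have h1 : ∀ᶠ y in 𝓝 x, ∀ j ∈ Finset.range (p.natDegree + 1),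
        AnLib.evOn V (p.coeff j) (Pts.map f y) = H (p.coeff j) (cY.Z (Pts.map f y)) :=
      (Finset.eventually_all _).2 fun j _ => hH' (p.coeff j)
    filter_upwards [h1, hU'] with y hy hyU
    have h2 : AnLib.evHom y U hyU (Polynomial.aeval P.x p) =
        p.eval₂ (AnLib.evHom (Pts.map f y) V (hmem hyU)) (AnLib.evHom y U hyU P.x) := by
      rw [← AnLib.evHom_comp_appLE f e y hyU (hmem hyU)]
      exact (AnLib.eval₂_comp _ _ _).symm
    refine (AnLib.evOn_eq _ hyU).trans (h2.trans ?_)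
    rw [Polynomial.eval₂_eq_sum_range]
    refine Finset.sum_congr rfl fun j hj => ?_
    rw [← hy j hj, AnLib.evOn_eq _ (hmem hyU)]
    simp only [hr, add_sub_cancel, AnLib.evOn_eq _ hyU]
    rfl
  have hH0 : ∀ a, H a 0 = AnLib.evHom (Pts.map f x) V (hmem hxU) a := fun a => by
    rw [← cY.Z_self, ← (hHev a).self_of_nhds, AnLib.evOn_eq _ (hmem hxU)]
    rfl
  -- the root as a function of the coordinates
  set G : ℂ[X] := P.f.map (AnLib.evHom (Pts.map f x) V (hmem hxU)) with hG
  have hG0 : ∀ ζ, ev P.f (0, ζ) = G.eval (r0 + ζ) := fun ζ => by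
    simp only [ev, hG, Polynomial.eval_map, Polynomial.eval₂_eq_sum_range, hH0]
  have hz0 : ∀ y, y.pt ∈ U → AnLib.evOn U (Polynomial.aeval P.x P.f) y = 0 := fun y hy => by
    rw [AnLib.evOn_eq _ hy, P.hasMap.1]; exact ev_zero _ _ _
  have hGr : G.eval r0 = 0 := by
    have h1 := (hevp P.f).self_of_nhds
    rw [hz0 x hxU, sub_self, cY.Z_self, hG0, add_zero] at h1
    exact h1.symm
  have hG' : G.derivative.eval r0 ≠ 0 := by
    rw [hG, Polynomial.derivative_map, Polynomial.eval_map, hr0, hr, AnLib.evOn_eq _ hxU,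
      show x.ev U hxU P.x = AnLib.evHom x U hxU P.x from rfl, ← AnLib.evHom_comp_appLE f e x hxU (hmem hxU)]
    exact fun h => (P.hasMap.isUnit_derivative_f.map (AnLib.evHom x U hxU)).ne_zero ((AnLib.eval₂_comp _ _ _).symm.trans h)
  set G1 : ℂ → ℂ := fun ζ => G.eval (r0 + ζ) with hG1
  have hG1d : Differentiable ℂ G1 := G.differentiable.comp (by fun_prop)
  have hud : Differentiable ℂ (dslope G1 0) := by
    rw [← differentiableOn_univ]
    exact (Complex.differentiableOn_dslope univ_mem).2 hG1d.differentiableOn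
  have hu0 : dslope G1 0 0 ≠ 0 := by
    rw [dslope_same]
    have := ((G.hasDerivAt (r0 + 0)).comp_const_add r0 0)
    rw [show deriv G1 0 = _ from this.deriv, add_zero]
    exact hG'
  obtain ⟨q, c, -, hc, hdiv⟩ := division (hevd P.f)
    (show DiffNear (fun w : (Fin cY.n → ℂ) × ℂ => w.2) 0 from Eventually.of_forall fun _ => differentiableAt_snd)
    (s := 1) (hud.analyticAt 0) hu0 (Eventually.of_forall fun ζ => by
      rw [hG0, pow_one]
      have := sub_smul_dslope G1 0 ζ
      rw [sub_zero, smul_eq_mul] at this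
      simp only [hG1, add_zero, hGr, sub_zero] at this ⊢
      exact this.symm)
  have hroot : ∀ᶠ y in 𝓝 x, r y - r0 = c 0 (cY.Z (Pts.map f y)) := by
    have hpair : Tendsto (fun y => (cY.Z (Pts.map f y), r y - r0)) (𝓝 x) (𝓝 0) :=
      hmapZ.prodMk_nhds (tendsto_sub_nhds_zero_iff.2 (AnLib.continuousAt_evOn P.x hxU).tendsto)
    filter_upwards [hpair.eventually hdiv, hevp P.f, hU'] with y hy hyf hyU
    rw [hy, ← hyf, hz0 y hyU]
    simp
  have hpoly : ∀ p : Γ(Y, V)[X], ∃ K : (Fin cY.n → ℂ) → ℂ, DiffNear K 0 ∧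
      ∀ᶠ y in 𝓝 x, AnLib.evOn U (Polynomial.aeval P.x p) y = K (cY.Z (Pts.map f y)) := by
    intro p
    refine ⟨fun w => ev p (w, c 0 w), ?_, ?_⟩
    · have hc0 : ContinuousAt (c 0) 0 := (hc 0).self_of_nhds.continuousAt
      have hc00 : c 0 0 = 0 := by
        have := hroot.self_of_nhds
        rw [cY.Z_self, sub_self] at this
        exact this.symm
      have ht : Tendsto (fun w => (w, c 0 w)) (𝓝 (0 : Fin cY.n → ℂ)) (𝓝 0) := by
        refine tendsto_id.prodMk_nhds ?_
        have := hc0.tendsto; rwa [hc00] at this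
      filter_upwards [ht.eventually (hevd p), hc 0] with w hw hw'
      exact hw.comp w (f := fun w => (w, c 0 w)) (differentiableAt_id.prodMk hw')
    · filter_upwards [hevp p, hroot] with y hy hy'
      rw [hy, hy']
  -- sections over `U`
  have hsec : ∀ b : Γ(X, U), ∃ K : (Fin cY.n → ℂ) → ℂ, DiffNear K 0 ∧
      ∀ᶠ y in 𝓝 x, AnLib.evOn U b y = K (cY.Z (Pts.map f y)) := by
    intro b
    obtain ⟨p, m, hp⟩ := P.exists_mul_aeval_x_g_pow_eq_aeval_x b
    obtain ⟨Kp, hKp, hKp'⟩ := hpoly p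
    obtain ⟨Kg, hKg, hKg'⟩ := hpoly P.g
    have hg0 : Kg 0 ≠ 0 := by
      rw [← cY.Z_self, ← hKg'.self_of_nhds, AnLib.evOn_eq _ hxU]
      exact (P.hasMap.2.map (AnLib.evHom x U hxU)).ne_zero
    have hgne : ∀ᶠ w in 𝓝 (0 : Fin cY.n → ℂ), Kg w ≠ 0 := hKg.self_of_nhds.continuousAt.eventually_ne hg0
    refine ⟨fun w => Kp w / Kg w ^ m, ?_, ?_⟩
    · filter_upwards [hKp, hKg, hgne] with w h1 h2 h3
      exact h1.fun_mul ((h2.fun_pow m).inv (pow_ne_zero _ h3))
    · filter_upwards [hKp', hKg', hU', hmapZ.eventually hgne] with y h1 h2 hy h3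
      rw [← h2, ← h1, AnLib.evOn_eq _ hy, AnLib.evOn_eq _ hy, AnLib.evOn_eq _ hy]
      rw [← h2, AnLib.evOn_eq _ hy] at h3
      show AnLib.evHom y U hy b = AnLib.evHom y U hy _ / AnLib.evHom y U hy _ ^ m
      refine (eq_div_iff (pow_ne_zero _ h3)).2 ?_
      exact ((congrArg (_ * ·) (map_pow (AnLib.evHom y U hy) _ m)).symm.trans (map_mul _ _ _).symm).trans
        (congrArg (AnLib.evHom y U hy) hp)
  obtain ⟨a, s, m, hs, hev⟩ := AnLib.exists_eventually_eq_div hU (cX.z i) hxU cX.hx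
  obtain ⟨Ka, hKa, hKa'⟩ := hsec a
  obtain ⟨Ks, hKs, hKs'⟩ := hsec s
  have hsne : ∀ᶠ w in 𝓝 (0 : Fin cY.n → ℂ), Ks w ≠ 0 :=
    hKs.self_of_nhds.continuousAt.eventually_ne (by rw [← cY.Z_self, ← hKs'.self_of_nhds]; exact hs)
  refine ⟨fun w => Ka w / Ks w ^ m, ?_, ?_⟩
  · filter_upwards [hKa, hKs, hsne] with w h1 h2 h3
    exact h1.fun_mul ((h2.fun_pow m).inv (pow_ne_zero _ h3))
  · filter_upwards [hKa', hKs', hev] with y h1 h2 h3
    show AnLib.evOn cX.U (cX.z i) y = _
    rw [h3, h1, h2]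

omit [IsReduced X] [IsReduced Y] in
theorem surjective_anStalkMap (x : Pts X) : Function.Surjective (anStalkMap f x) := by
  intro o
  obtain ⟨cX⟩ := exists_chart x
  obtain ⟨cY⟩ := exists_chart (Pts.map f x)
  obtain ⟨a, rfl⟩ := cX.psi_surjective o
  obtain ⟨H, hH, rfl⟩ := HolGerm.exists_rep a
  choose K hK hKev using exists_inverse_coords f x cX cY
  have hK0 : (fun i => K i 0) = (0 : Fin cX.n → ℂ) := funext fun i => by
    rw [← cY.Z_self, ← (hKev i).self_of_nhds, cX.Z_self]
  have hd : DiffNear (fun w => H fun i => K i w) 0 := by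
    have ht : Tendsto (fun w => fun i => K i w) (𝓝 (0 : Fin cY.n → ℂ)) (𝓝 0) := by
      rw [← hK0]; exact tendsto_pi_nhds.2 fun i => (hK i).self_of_nhds.continuousAt.tendsto
    filter_upwards [ht.eventually hH, eventually_all.2 hK] with w hw hw'
    exact hw.comp w (f := fun w => fun i => K i w) (differentiableAt_pi.2 hw')
  refine ⟨cY.psi (HolGerm.mk _ hd), toGerm_injective x ?_⟩
  rw [toGerm_anStalkMap, cY.toGerm_psi, cX.toGerm_psi, cY.omega_mk, cX.omega_mk]
  exact Germ.coe_eq.2 ((eventually_all.2 hKev).mono fun y hy => congrArg H (funext fun i => (hy i).symm))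

theorem bijective_anStalkMap (x : Pts X) : Function.Bijective (anStalkMap f x) :=
  ⟨injective_anStalkMap f x, surjective_anStalkMap f x⟩

omit [Etale f] in
theorem etale_of_bijective (h : ∀ x : Pts X, Function.Bijective (anStalkMap f x)) : Etale f := by
  haveI : Flat f := (flat_iff_closedPoints f).2 fun x => (flat_iff f x).2 (RingHom.Flat.of_bijective (h x))
  haveI : FormallyUnramified f := (formallyUnramified_iff_map_max f).2 fun x => by
    rw [map_max_iff (compIso_stalkHom (Pts.map f x)) (compIso_stalkHom x) (square f x)]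
    exact IsLocalRing.eq_maximalIdeal (Ideal.map_isMaximal_of_equiv (RingEquiv.ofBijective (anStalkMap f x) (h x))
      (hp := IsLocalRing.maximalIdeal.isMaximal _))
  haveI := AnLib.lfp_of_over f
  exact Etale.of_formallyUnramified_of_flat f

end AnStalkLib
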