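import Groth.Agent.AnStalkLib.Completion
import Groth.Agent.AnLib.Closure
import Groth.Agent.OrbitLib.Infinitesimal

/-!
# Flatness of the analytic local ring over the algebraic one
-/

set_option autoImplicit false

open CategoryTheory AlgebraicGeometry TopologicalSpace Topology Filter An Opposite IsLocalRing

namespace AnStalkLib

variable {X : Scheme.{0}} [X.Over SC] [LocallyOfFiniteType (X ↘ SC)] [IsReduced X]

theorem isNoetherianRing_stalk (x : Pts X) : IsNoetherianRing (X.presheaf.stalk x.pt) := by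
  haveI : IsLocallyNoetherian X := AnLib.isLocallyNoetherian
  infer_instance

omit [IsReduced X] in
theorem isLocalHom_stalkHom (x : Pts X) : IsLocalHom (stalkHom x) :=
  ((local_hom_TFAE (stalkHom x)).out 0 2).2 (map_maximalIdeal x).le

theorem surjective_mk_comp (x : Pts X) (n : ℕ) :
    Function.Surjective ((Ideal.Quotient.mk (maximalIdeal (anStalk x) ^ n)).comp (stalkHom x)) := by
  intro b
  obtain ⟨o, rfl⟩ := Ideal.Quotient.mk_surjective b
  obtain ⟨a, -, ha⟩ := exists_pow_sub_mem x 0 n (o := o) (by rw [pow_zero, Ideal.one_eq_top]; exact Submodule.mem_top)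
  rw [zero_add] at ha
  exact ⟨a, (Ideal.Quotient.eq).2 ha⟩

theorem stalkHom_mem_pow_iff (x : Pts X) (n : ℕ) (a : X.presheaf.stalk x.pt) :
    stalkHom x a ∈ maximalIdeal (anStalk x) ^ n ↔ a ∈ maximalIdeal (X.presheaf.stalk x.pt) ^ n := by
  refine ⟨mem_pow_of_stalkHom_mem_pow x n, fun h => ?_⟩
  rw [← map_maximalIdeal x, ← Ideal.map_pow]
  exact Ideal.mem_map_of_mem _ h

theorem flat_stalkHom (x : Pts X) : (stalkHom x).Flat := by
  letI : Algebra (X.presheaf.stalk x.pt) (anStalk x) := (stalkHom x).toAlgebra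
  haveI := isNoetherianRing_stalk x
  haveI : IsLocalHom (algebraMap (X.presheaf.stalk x.pt) (anStalk x)) := isLocalHom_stalkHom x
  exact OrbitLib.flat_of_bijective_pow _ _ fun n => ⟨surjective_mk_comp x (n + 1), stalkHom_mem_pow_iff x (n + 1)⟩

end AnStalkLib
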