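import Groth.Agent.AnStalkLib.Weier
import Mathlib.Order.Filter.Germ.Basic
import Mathlib.RingTheory.Noetherian.Basic
import Mathlib.RingTheory.Noetherian.Defs
import Mathlib.RingTheory.Finiteness.Basic
import Mathlib.RingTheory.Finiteness.Finsupp
import Mathlib.RingTheory.Ideal.Quotient.Operations
import Mathlib.RingTheory.LocalRing.Basic

/-!
# The ring of germs of holomorphic functions is Noetherian
-/

set_option autoImplicit false

open Filter Metric Set
open scoped Topology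

namespace AnStalkLib

variable (E : Type*) [NormedAddCommGroup E] [NormedSpace ℂ E]

/-- Germs at the origin of holomorphic functions. -/
def holGerm : Subring (Germ (𝓝 (0 : E)) ℂ) where
  carrier := {a | ∃ f : E → ℂ, DiffNear f 0 ∧ (↑f : Germ (𝓝 (0 : E)) ℂ) = a}
  one_mem' := ⟨fun _ => 1, Eventually.of_forall fun _ => differentiableAt_const _, rfl⟩
  zero_mem' := ⟨fun _ => 0, Eventually.of_forall fun _ => differentiableAt_const _, rfl⟩
  mul_mem' := by
    rintro _ _ ⟨f, hf, rfl⟩ ⟨g, hg, rfl⟩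
    exact ⟨f * g, (hf.and hg).mono fun y hy => hy.1.mul hy.2, rfl⟩
  add_mem' := by
    rintro _ _ ⟨f, hf, rfl⟩ ⟨g, hg, rfl⟩
    exact ⟨f + g, (hf.and hg).mono fun y hy => hy.1.add hy.2, rfl⟩
  neg_mem' := by
    rintro _ ⟨f, hf, rfl⟩
    exact ⟨-f, hf.mono fun y hy => hy.neg, rfl⟩

variable {E}

/-- The germ of a holomorphic function. -/
def HolGerm.mk (f : E → ℂ) (hf : DiffNear f 0) : holGerm E := ⟨↑f, f, hf, rfl⟩

theorem HolGerm.exists_rep (a : holGerm E) : ∃ (f : E → ℂ) (hf : DiffNear f 0), HolGerm.mk f hf = a := by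
  obtain ⟨_, f, hf, rfl⟩ := a
  exact ⟨f, hf, rfl⟩

theorem HolGerm.mk_eq_mk {f g : E → ℂ} {hf : DiffNear f 0} {hg : DiffNear g 0} :
    HolGerm.mk f hf = HolGerm.mk g hg ↔ f =ᶠ[𝓝 0] g :=
  Subtype.ext_iff.trans Germ.coe_eq

theorem HolGerm.mk_mul {f g : E → ℂ} (hf : DiffNear f 0) (hg : DiffNear g 0) (h : DiffNear (f * g) 0) :
    HolGerm.mk f hf * HolGerm.mk g hg = HolGerm.mk (f * g) h := rfl

theorem HolGerm.coe_sum {ι : Type*} (t : Finset ι) (F : ι → E → ℂ) :
    ((↑(∑ i ∈ t, F i) : Germ (𝓝 (0 : E)) ℂ)) = ∑ i ∈ t, (↑(F i) : Germ (𝓝 (0 : E)) ℂ) :=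
  map_sum (Germ.coeRingHom (𝓝 (0 : E))) F t

theorem HolGerm.isUnit_mk {f : E → ℂ} (hf : DiffNear f 0) (h0 : f 0 ≠ 0) : IsUnit (HolGerm.mk f hf) := by
  have hc : ∀ᶠ y in 𝓝 0, f y ≠ 0 := hf.self_of_nhds.continuousAt.eventually_ne h0
  have hinv : DiffNear f⁻¹ 0 := (hf.and hc).mono fun y hy => hy.1.inv hy.2
  refine isUnit_iff_exists_inv.2 ⟨HolGerm.mk f⁻¹ hinv, Subtype.ext (Germ.coe_eq.2 (hc.mono fun y hy => ?_))⟩
  exact mul_inv_cancel₀ hy

/-- Pull back of germs along a holomorphic map. -/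
def pullGerm {E' : Type*} [NormedAddCommGroup E'] [NormedSpace ℂ E'] (φ : E' →L[ℂ] E) :
    holGerm E →+* holGerm E' where
  toFun a := ⟨a.1.compTendsto φ (φ.continuous.tendsto' 0 0 (map_zero φ)), by
    obtain ⟨_, f, hf, rfl⟩ := a
    exact ⟨f ∘ φ, ((φ.continuous.tendsto' 0 0 (map_zero φ)).eventually hf).mono fun y hy =>
      hy.comp y φ.differentiableAt, rfl⟩⟩
  map_one' := rfl
  map_mul' a b := by
    obtain ⟨_, f, hf, rfl⟩ := a; obtain ⟨_, g, hg, rfl⟩ := b; rfl
  map_zero' := rfl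
  map_add' a b := by
    obtain ⟨_, f, hf, rfl⟩ := a; obtain ⟨_, g, hg, rfl⟩ := b; rfl

theorem diffNear_comp {E' : Type*} [NormedAddCommGroup E'] [NormedSpace ℂ E'] (φ : E' →L[ℂ] E) {f : E → ℂ}
    (hf : DiffNear f 0) : DiffNear (f ∘ φ) 0 :=
  ((φ.continuous.tendsto' 0 0 (map_zero φ)).eventually hf).mono fun y hy => hy.comp y φ.differentiableAt

theorem pullGerm_mk {E' : Type*} [NormedAddCommGroup E'] [NormedSpace ℂ E'] (φ : E' →L[ℂ] E) {f : E → ℂ}
    (hf : DiffNear f 0) : pullGerm φ (HolGerm.mk f hf) = HolGerm.mk (f ∘ φ) (diffNear_comp φ hf) := rfl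

/-- Germs in isomorphic spaces. -/
noncomputable def germEquiv {E' : Type*} [NormedAddCommGroup E'] [NormedSpace ℂ E'] (e : E' ≃L[ℂ] E) :
    holGerm E ≃+* holGerm E' :=
  RingEquiv.ofRingHom (pullGerm (e : E' →L[ℂ] E)) (pullGerm (e.symm : E →L[ℂ] E'))
    (RingHom.ext fun a => by
      obtain ⟨f, hf, rfl⟩ := HolGerm.exists_rep a
      show pullGerm _ (pullGerm _ (HolGerm.mk f hf)) = HolGerm.mk f hf
      rw [pullGerm_mk, pullGerm_mk]
      refine HolGerm.mk_eq_mk.2 (Eventually.of_forall fun y => ?_)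
      simp)
    (RingHom.ext fun a => by
      obtain ⟨f, hf, rfl⟩ := HolGerm.exists_rep a
      show pullGerm _ (pullGerm _ (HolGerm.mk f hf)) = HolGerm.mk f hf
      rw [pullGerm_mk, pullGerm_mk]
      refine HolGerm.mk_eq_mk.2 (Eventually.of_forall fun y => ?_)
      simp)

/-- A nonzero germ is nonzero on some line. -/
theorem exists_direction {g : E → ℂ} (hg : DiffNear g 0) (hne : ¬ g =ᶠ[𝓝 0] 0) :
    ∃ v : E, ¬ (fun t : ℂ => g (t • v)) =ᶠ[𝓝 0] 0 := by
  by_contra! hall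
  obtain ⟨r, hr, hgr⟩ := Metric.eventually_nhds_iff_ball.1 hg
  refine hne (Metric.eventually_nhds_iff_ball.2 ⟨r, hr, fun y hy => ?_⟩)
  rw [mem_ball_zero_iff] at hy
  set B : Set ℂ := {t | t • y ∈ ball (0 : E) r}
  have hB : IsOpen B := isOpen_ball.preimage (by fun_prop)
  have hBc : IsPreconnected B := by
    refine Convex.isPreconnected ?_
    exact (convex_ball (0 : E) r).linear_preimage ((LinearMap.toSpanSingleton ℂ E y).restrictScalars ℝ)
  have hd : DifferentiableOn ℂ (fun t : ℂ => g (t • y)) B := fun t ht =>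
    ((hgr (t • y) ht).comp t (f := fun t : ℂ => t • y) (by fun_prop)).differentiableWithinAt
  have h0 : (0 : ℂ) ∈ B := by show (0 : ℂ) • y ∈ ball (0 : E) r; rw [zero_smul]; exact mem_ball_self hr
  have := (hd.analyticOnNhd hB).eqOn_zero_of_preconnected_of_eventuallyEq_zero hBc h0 (hall y)
    (show (1 : ℂ) ∈ B by show (1 : ℂ) • y ∈ ball (0 : E) r; rw [one_smul]; simpa using hy)
  simpa using this

variable [FiniteDimensional ℂ E]

theorem fg_of_regular {s : ℕ} {g : E × ℂ → ℂ} (hg : DiffNear g 0) {u : ℂ → ℂ} (hu : AnalyticAt ℂ u 0)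
    (hu0 : u 0 ≠ 0) (hgu : ∀ᶠ ζ in 𝓝 (0 : ℂ), g (0, ζ) = ζ ^ s * u ζ) [IsNoetherianRing (holGerm E)]
    {J : Ideal (holGerm (E × ℂ))} (hgJ : HolGerm.mk g hg ∈ J) : J.FG := by
  classical
  letI : Algebra (holGerm E) (holGerm (E × ℂ)) := (pullGerm (ContinuousLinearMap.fst ℂ E ℂ)).toAlgebra
  set N : Ideal (holGerm (E × ℂ)) := Ideal.span {HolGerm.mk g hg}
  have hsnd : ∀ j : ℕ, DiffNear (fun p : E × ℂ => p.2 ^ j) 0 := fun j =>
    Eventually.of_forall fun p => by fun_prop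
  have hfin : Module.Finite (holGerm E) (holGerm (E × ℂ) ⧸ N) := by
    refine ⟨Submodule.fg_def.2 ⟨Set.range fun j : Fin s => Ideal.Quotient.mk N (HolGerm.mk _ (hsnd j)),
      Set.finite_range _, eq_top_iff.2 fun x _ => ?_⟩⟩
    obtain ⟨a, rfl⟩ := Ideal.Quotient.mk_surjective x
    obtain ⟨h, hh, rfl⟩ := HolGerm.exists_rep a
    obtain ⟨q, c, hq, hc, hev⟩ := division hg hh hu hu0 hgu
    have key : HolGerm.mk h hh = HolGerm.mk g hg * HolGerm.mk q hq +
        ∑ j, HolGerm.mk (c j) (hc j) • HolGerm.mk _ (hsnd j) := by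
      simp only [Algebra.smul_def, RingHom.algebraMap_toAlgebra, pullGerm_mk]
      refine Subtype.ext ?_
      push_cast
      simp only [HolGerm.mk]
      simp only [← Germ.coe_mul, ← HolGerm.coe_sum, ← Germ.coe_add]
      exact Germ.coe_eq.2 (hev.mono fun p hp => by simpa [Finset.sum_apply] using hp)
    rw [key, map_add, map_mul, show Ideal.Quotient.mk N (HolGerm.mk g hg) = 0 from
        Ideal.Quotient.eq_zero_iff_mem.2 (Ideal.mem_span_singleton_self _), zero_mul, zero_add,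
      map_sum]
    refine Submodule.sum_mem _ fun j _ => ?_
    rw [show Ideal.Quotient.mk N (HolGerm.mk (c j) (hc j) • HolGerm.mk _ (hsnd j)) =
      HolGerm.mk (c j) (hc j) • Ideal.Quotient.mk N (HolGerm.mk _ (hsnd j)) from rfl]
    exact Submodule.smul_mem _ _ (Submodule.subset_span ⟨j, rfl⟩)
  haveI : IsNoetherian (holGerm E) (holGerm (E × ℂ) ⧸ N) := isNoetherian_of_isNoetherianRing_of_finite _ _
  haveI : IsNoetherian (holGerm (E × ℂ)) (holGerm (E × ℂ) ⧸ N) := isNoetherian_of_tower (holGerm E) inferInstance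
  refine Submodule.fg_of_fg_map_of_fg_inf_ker (Submodule.mkQ N) (IsNoetherian.noetherian _) ?_
  rw [Submodule.ker_mkQ, inf_eq_right.2 ((Ideal.span_singleton_le_iff_mem J).2 hgJ)]
  exact Submodule.fg_span_singleton _

omit [FiniteDimensional ℂ E]

theorem isNoetherianRing_holGerm' (d : ℕ) : ∀ (E : Type) [NormedAddCommGroup E] [NormedSpace ℂ E]
    [FiniteDimensional ℂ E], Module.finrank ℂ E ≤ d → IsNoetherianRing (holGerm E) := by
  induction d with
  | zero =>
    intro E _ _ _ hd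
    refine (isNoetherianRing_iff_ideal_fg _).2 fun I => ?_
    rcases eq_or_ne I ⊥ with rfl | hI
    · exact Submodule.fg_bot
    obtain ⟨a, ha, ha0⟩ := Submodule.exists_mem_ne_zero_of_ne_bot hI
    obtain ⟨g, hg, rfl⟩ := HolGerm.exists_rep a
    haveI : Subsingleton E := Module.finrank_zero_iff.1 (Nat.le_zero.1 hd)
    have h0 : g 0 ≠ 0 := fun h => ha0 (Subtype.ext (Germ.coe_eq.2 (Eventually.of_forall fun y => by
      rw [Subsingleton.elim y 0]; exact h)))
    rw [Ideal.eq_top_of_isUnit_mem I ha (HolGerm.isUnit_mk hg h0)]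
    exact ⟨{1}, by simp⟩
  | succ d ih =>
    intro E _ _ _ hd
    refine (isNoetherianRing_iff_ideal_fg _).2 fun I => ?_
    rcases eq_or_ne I ⊥ with rfl | hI
    · exact Submodule.fg_bot
    obtain ⟨a, ha, ha0⟩ := Submodule.exists_mem_ne_zero_of_ne_bot hI
    obtain ⟨g, hg, rfl⟩ := HolGerm.exists_rep a
    by_cases h0 : g 0 = 0
    swap
    · rw [Ideal.eq_top_of_isUnit_mem I ha (HolGerm.isUnit_mk hg h0)]
      exact ⟨{1}, by simp⟩
    obtain ⟨v, hv⟩ := exists_direction hg fun h => ha0 (Subtype.ext (Germ.coe_eq.2 h))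
    have hv0 : v ≠ 0 := fun h => hv (Eventually.of_forall fun t => by simp [h, h0])
    obtain ⟨W, hW⟩ := Submodule.exists_isCompl (ℂ ∙ v)
    let e₀ : (W × ℂ) ≃ₗ[ℂ] E :=
      ((LinearEquiv.refl ℂ W).prodCongr (LinearEquiv.toSpanNonzeroSingleton ℂ E v hv0)).trans
        (Submodule.prodEquivOfIsCompl W (ℂ ∙ v) hW.symm)
    let e : (W × ℂ) ≃L[ℂ] E := e₀.toContinuousLinearEquiv
    have he : ∀ t : ℂ, e ((0 : W), t) = t • v := fun t => by
      show e₀ ((0 : W), t) = _
      simp [e₀]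
    haveI := ih W (by
      have h := Submodule.finrank_add_eq_of_isCompl hW
      rw [finrank_span_singleton hv0] at h
      omega)
    have hge : DiffNear (g ∘ (e : (W × ℂ) →L[ℂ] E)) 0 := diffNear_comp _ hg
    have han : AnalyticAt ℂ (fun t : ℂ => g (t • v)) 0 := by
      refine Complex.analyticAt_iff_eventually_differentiableAt.2 ?_
      have hc : Tendsto (fun t : ℂ => t • v) (𝓝 0) (𝓝 0) := Continuous.tendsto' (by fun_prop) _ _ (zero_smul _ v)
      exact (hc.eventually hg).mono fun t ht => ht.comp t (f := fun t : ℂ => t • v) (by fun_prop)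
    obtain ⟨s, hs⟩ := ENat.ne_top_iff_exists.1 fun h => hv (analyticOrderAt_eq_top.1 h)
    obtain ⟨u, hu, hu0, hgu⟩ := han.analyticOrderAt_eq_natCast.1 hs.symm
    have hJ : (I.map (germEquiv e).toRingHom).FG := fg_of_regular hge hu hu0
      (hgu.mono fun t ht => by
        show g (e ((0 : W), t)) = _
        rw [he, ht, sub_zero, smul_eq_mul])
      (Ideal.mem_map_of_mem (germEquiv e).toRingHom ha)
    have hI' : (I.map (germEquiv e).toRingHom).map (germEquiv e).symm.toRingHom = I := by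
      rw [Ideal.map_map]
      rw [show (germEquiv e).symm.toRingHom.comp (germEquiv e).toRingHom = RingHom.id _ from
        RingHom.ext fun x => (germEquiv e).symm_apply_apply x, Ideal.map_id]
    rw [← hI']
    obtain ⟨S, hS⟩ := hJ
    rw [← hS, Ideal.map_span]
    exact Submodule.fg_span (S.finite_toSet.image _)

/-- Rückert's basis theorem. -/
instance isNoetherianRing_holGerm (n : ℕ) : IsNoetherianRing (holGerm (Fin n → ℂ)) :=
  isNoetherianRing_holGerm' _ _ le_rfl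

end AnStalkLib
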