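import Mathlib.Analysis.Calculus.ParametricIntervalIntegral
import Mathlib.Analysis.Complex.Schwarz
import Mathlib.Analysis.Complex.RemovableSingularity
import Mathlib.Analysis.Calculus.MeanValue
import Mathlib.LinearAlgebra.FiniteDimensional.Defs
import Mathlib.Analysis.Normed.Module.FiniteDimension
import Mathlib.Analysis.Calculus.LineDeriv.Basic
import Mathlib.Analysis.Calculus.Deriv.Slope

/-!
# Cauchy integrals depending holomorphically on parameters, and Hadamard's lemma
-/

set_option autoImplicit false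

open MeasureTheory Filter Metric Set Complex
open scoped Topology Interval Real

namespace AnStalkLib

variable {E : Type*} [NormedAddCommGroup E] [NormedSpace ℂ E] [FiniteDimensional ℂ E]

/-- A circle integral depending separately holomorphically and jointly continuously on a parameter
is holomorphic in the parameter. -/
theorem differentiableAt_circleIntegral {F : E → ℂ → ℂ} {U : Set E} (hU : IsOpen U) {c : ℂ} {R : ℝ}
    (hR : 0 ≤ R) (hc : ContinuousOn (fun p : E × ℂ => F p.1 p.2) (U ×ˢ sphere c R))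
    (hd : ∀ ζ ∈ sphere c R, DifferentiableOn ℂ (fun x => F x ζ) U) {x₀ : E} (hx : x₀ ∈ U) :
    DifferentiableAt ℂ (fun x => ∮ ζ in C(c, R), F x ζ) x₀ := by
  haveI : ProperSpace E := FiniteDimensional.proper ℂ E
  obtain ⟨ε, hε, hεU⟩ := Metric.isOpen_iff.1 hU x₀ hx
  set r := ε / 3 with hr_def
  have hr : 0 < r := by positivity
  have hKU : closedBall x₀ (2 * r) ⊆ U := (closedBall_subset_ball (by linarith)).trans hεU
  obtain ⟨M, hM⟩ := ((isCompact_closedBall x₀ (2 * r)).prod (isCompact_sphere c R)).exists_bound_of_continuousOn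
    (hc.mono (Set.prod_mono hKU Subset.rfl))
  have hsph : ∀ θ : ℝ, circleMap c R θ ∈ sphere c R := fun θ => circleMap_mem_sphere c hR θ
  set G : E → ℝ → ℂ := fun x θ => deriv (circleMap c R) θ • F x (circleMap c R θ) with hG
  have hGc : ∀ x ∈ U, Continuous (G x) := fun x hx' => by
    have h1 : Continuous fun θ => F x (circleMap c R θ) :=
      hc.comp_continuous (f := fun θ => (x, circleMap c R θ)) (by fun_prop) fun θ => ⟨hx', hsph θ⟩
    simp only [hG, deriv_circleMap, smul_eq_mul]
    exact (((continuous_circleMap 0 R).mul continuous_const).mul h1)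
  have hGd : ∀ θ, DifferentiableOn ℂ (fun x => G x θ) U := fun θ => by
    simp only [hG, smul_eq_mul]
    exact (differentiableOn_const _).fun_mul (hd _ (hsph θ))
  set M' : ℝ := 2 * |R| * |M| + 1 with hM'
  have hM'0 : 0 < M' := by positivity
  have hGM : ∀ x ∈ closedBall x₀ (2 * r), ∀ θ, ‖G x θ‖ ≤ |R| * |M| := fun x hx' θ => by
    simp only [hG, norm_smul, deriv_circleMap, norm_mul, norm_circleMap_zero, Complex.norm_I, mul_one]
    exact mul_le_mul_of_nonneg_left ((hM (x, _) ⟨hx', hsph θ⟩).trans (le_abs_self M)) (abs_nonneg R)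
  have hbound : ∀ θ, ∀ x ∈ ball x₀ r, ‖fderiv ℂ (fun x => G x θ) x‖ ≤ M' / r := fun θ x hx' => by
    have hsub : ball x r ⊆ closedBall x₀ (2 * r) := fun y hy =>
      mem_closedBall.2 ((dist_triangle y x x₀).trans (by
        rw [mem_ball] at hy hx'; linarith))
    refine Complex.norm_fderiv_le_div_of_mapsTo_ball ((hGd θ).mono (hsub.trans hKU)) (fun y hy => ?_) hr
    rw [mem_closedBall, dist_eq_norm]
    refine (norm_sub_le _ _).trans ?_
    have h1 := hGM y (hsub hy) θ
    have h2 := hGM x (hsub (mem_ball_self hr)) θ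
    rw [hM']; linarith
  have hlip : ∀ θ, LipschitzOnWith (Real.nnabs (M' / r)) (fun x => G x θ) (ball x₀ r) := fun θ => by
    have hs : ball x₀ r ⊆ U := (ball_subset_closedBall.trans (closedBall_subset_closedBall (by linarith))).trans hKU
    refine (convex_ball x₀ r).lipschitzOnWith_of_nnnorm_fderiv_le (𝕜 := ℂ)
      (fun y hy => (hGd θ).differentiableAt (hU.mem_nhds (hs hy))) (fun y hy => ?_)
    rw [← NNReal.coe_le_coe, coe_nnnorm, Real.coe_nnabs]
    exact (hbound θ y hy).trans (le_abs_self _)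
  have hdiff : ∀ θ, HasFDerivAt (fun x => G x θ) (fderiv ℂ (fun x => G x θ) x₀) x₀ := fun θ =>
    ((hGd θ).differentiableAt (hU.mem_nhds hx)).hasFDerivAt
  have hmeas : AEStronglyMeasurable (fun θ => fderiv ℂ (fun x => G x θ) x₀) (volume.restrict (Ι 0 (2 * π))) := by
    set b := Module.finBasis ℂ E
    have hdir : ∀ i, AEStronglyMeasurable (fun θ => fderiv ℂ (fun x => G x θ) x₀ (b i))
        (volume.restrict (Ι 0 (2 * π))) := fun i => by
      set u : ℕ → ℂ := fun k => ((k : ℂ) + 1)⁻¹ with hu
      have hu0 : Tendsto u atTop (𝓝 0) := by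
        simpa [hu, one_div] using tendsto_one_div_add_atTop_nhds_zero_nat (𝕜 := ℂ)
      have hu' : Tendsto (fun k => x₀ + u k • b i) atTop (𝓝 x₀) := by
        simpa using (hu0.smul_const (b i)).const_add x₀
      obtain ⟨N, hN⟩ := eventually_atTop.1 (hu'.eventually (hU.mem_nhds hx))
      refine aestronglyMeasurable_of_tendsto_ae atTop
        (f := fun k θ => (u (k + N))⁻¹ • (G (x₀ + u (k + N) • b i) θ - G x₀ θ)) (fun k => ?_) (Eventually.of_forall fun θ => ?_)
      · exact (((hGc _ (hN _ (Nat.le_add_left N k))).sub (hGc _ hx)).const_smul (u (k + N))⁻¹).aestronglyMeasurable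
      · have hl := (hdiff θ).hasLineDerivAt (b i)
        have h1 := hasDerivAt_iff_tendsto_slope_zero.1 hl
        have hu1 : Tendsto (fun k => u (k + N)) atTop (𝓝[≠] 0) :=
          tendsto_nhdsWithin_iff.2 ⟨hu0.comp (tendsto_add_atTop_nat N),
            Eventually.of_forall fun k => inv_ne_zero (by exact_mod_cast Nat.succ_ne_zero (k + N))⟩
        simpa [Function.comp_def] using h1.comp hu1
    have heq : (fun θ => fderiv ℂ (fun x => G x θ) x₀) = fun θ =>
        ∑ i, (b.coord i).toContinuousLinearMap.smulRight (fderiv ℂ (fun x => G x θ) x₀ (b i)) := by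
      funext θ
      refine ContinuousLinearMap.ext fun v => ?_
      conv_lhs => rw [← b.sum_repr v, map_sum]
      simp [ContinuousLinearMap.smulRight_apply]
    rw [heq]
    refine Finset.aestronglyMeasurable_fun_sum _ fun i _ => ?_
    exact (ContinuousLinearMap.smulRightL ℂ E ℂ (b.coord i).toContinuousLinearMap).continuous.comp_aestronglyMeasurable (hdir i)
  have hkey := intervalIntegral.hasFDerivAt_integral_of_dominated_loc_of_lip (𝕜 := ℂ) (μ := volume)
    (a := 0) (b := 2 * π) (F := G) (F' := fun θ => fderiv ℂ (fun x => G x θ) x₀) (x₀ := x₀)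
    (bound := fun _ => M' / r) (ball_mem_nhds x₀ hr)
    ((eventually_mem_nhds_iff.2 (hU.mem_nhds hx)).mono fun x hx' => (hGc x (mem_of_mem_nhds hx')).aestronglyMeasurable)
    ((hGc _ hx).intervalIntegrable _ _) hmeas (Eventually.of_forall fun θ _ => hlip θ)
    intervalIntegrable_const (Eventually.of_forall fun θ _ => hdiff θ)
  exact hkey.2.differentiableAt

/-- The difference quotient in one variable of a holomorphic function is holomorphic jointly with
the parameters. -/
theorem differentiableAt_dslope {f : E → ℂ → ℂ} {U : Set E} (hU : IsOpen U) {R : ℝ} {V : Set ℂ}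
    (hV : IsOpen V) (hRV : closedBall 0 R ⊆ V) (hf : DifferentiableOn ℂ (fun p : E × ℂ => f p.1 p.2) (U ×ˢ V))
    {p : E × ℂ} (hp : p.1 ∈ U) (hs : p.2 ∈ ball (0 : ℂ) R) :
    DifferentiableAt ℂ (fun q : E × ℂ => dslope (f q.1) 0 q.2) p := by
  have hR : 0 < R := pos_of_mem_ball hs
  have hW : IsOpen (U ×ˢ ball (0 : ℂ) R) := hU.prod isOpen_ball
  have hfix : ∀ w ∈ U, DifferentiableOn ℂ (f w) V := fun w hw =>
    hf.comp ((differentiableOn_const w).prodMk differentiableOn_id) fun s hs => ⟨hw, hs⟩
  have hne : ∀ s ∈ ball (0 : ℂ) R, ∀ ζ ∈ sphere (0 : ℂ) R, ζ - s ≠ 0 := fun s hs ζ hζ =>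
    sub_ne_zero.2 (sphere_disjoint_ball.ne_of_mem hζ hs)
  set K : E × ℂ → ℂ → ℂ := fun q ζ => (ζ - q.2)⁻¹ * ((f q.1 ζ - f q.1 0) / ζ) with hK
  have hζ0 : ∀ ζ ∈ sphere (0 : ℂ) R, ζ ≠ 0 := fun ζ hζ => ne_of_mem_sphere hζ hR.ne'
  have h0V : (0 : ℂ) ∈ V := hRV (mem_closedBall_self hR.le)
  have hd := differentiableAt_circleIntegral (F := K) hW hR.le (c := 0) ?_ ?_ (x₀ := p) ⟨hp, hs⟩
  · refine (hd.const_mul (2 * π * I)⁻¹).congr_of_eventuallyEq ?_
    filter_upwards [hW.mem_nhds ⟨hp, hs⟩] with q hq
    have h1 : DifferentiableOn ℂ (dslope (f q.1) 0) (closedBall 0 R) :=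
      ((Complex.differentiableOn_dslope (hV.mem_nhds h0V)).2 (hfix q.1 hq.1)).mono hRV
    have h2 := h1.circleIntegral_sub_inv_smul hq.2
    rw [smul_eq_mul] at h2
    calc dslope (f q.1) 0 q.2 = (2 * π * I)⁻¹ * (2 * π * I * dslope (f q.1) 0 q.2) := by
          rw [← mul_assoc, inv_mul_cancel₀ two_pi_I_ne_zero, one_mul]
      _ = (2 * π * I)⁻¹ * ∮ ζ in C(0, R), K q ζ := by
          rw [← h2]
          refine congrArg ((2 * π * I)⁻¹ * ·) (circleIntegral.integral_congr hR.le fun ζ hζ => ?_)
          simp only [hK, smul_eq_mul, dslope_of_ne _ (hζ0 ζ hζ), slope_def_field, sub_zero]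
  · have hfc := hf.continuousOn
    refine ContinuousOn.mul (ContinuousOn.inv₀ (by fun_prop) fun q hq => hne _ hq.1.2 _ hq.2)
      (ContinuousOn.div (ContinuousOn.sub ?_ ?_) (by fun_prop) fun q hq => hζ0 _ hq.2)
    · exact hfc.comp (f := fun q : (E × ℂ) × ℂ => (q.1.1, q.2)) (by fun_prop) fun q hq =>
        ⟨hq.1.1, hRV (sphere_subset_closedBall hq.2)⟩
    · exact hfc.comp (f := fun q : (E × ℂ) × ℂ => (q.1.1, (0 : ℂ))) (by fun_prop) fun q hq => ⟨hq.1.1, h0V⟩
  · intro ζ hζ
    have hζV : ζ ∈ V := hRV (sphere_subset_closedBall hζ)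
    refine DifferentiableOn.fun_mul (DifferentiableOn.inv (by fun_prop) fun q hq => hne _ hq.2 _ hζ)
      ((DifferentiableOn.sub ?_ ?_).mul_const _)
    · exact hf.comp (f := fun q : E × ℂ => (q.1, ζ)) (by fun_prop) fun q hq => ⟨hq.1, hζV⟩
    · exact hf.comp (f := fun q : E × ℂ => (q.1, (0 : ℂ))) (by fun_prop) fun q hq => ⟨hq.1, h0V⟩

/-- Hadamard's lemma for holomorphic functions on a polydisc. -/
theorem exists_hadamard {n : ℕ} {H : (Fin n → ℂ) → ℂ} {r : ℝ} (hr : 0 < r)
    (hH : DifferentiableOn ℂ H (ball 0 r)) :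
    ∃ Hi : Fin n → (Fin n → ℂ) → ℂ, (∀ i, DifferentiableOn ℂ (Hi i) (ball 0 (r / 2))) ∧
      ∀ z ∈ ball (0 : Fin n → ℂ) (r / 2), H z = H 0 + ∑ i, z i * Hi i z := by
  classical
  set T : ℕ → (Fin n → ℂ) → (Fin n → ℂ) := fun k z i => if (i : ℕ) < k then z i else 0 with hT
  have hTdiff : ∀ k, Differentiable ℂ (T k) := fun k => differentiable_pi.2 fun i => by
    simp only [hT]
    split_ifs <;> fun_prop
  set f : Fin n → (Fin n → ℂ) → ℂ → ℂ := fun i z s => H (Function.update (T i z) i s)
  refine ⟨fun i z => dslope (f i z) 0 (z i), fun i z hz => ?_, fun z hz => ?_⟩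
  · have hz' : ∀ j, ‖z j‖ < r / 2 := (pi_norm_lt_iff (by linarith)).1 (by simpa using hz)
    have hupd : Differentiable ℂ (fun p : (Fin n → ℂ) × ℂ => Function.update (T i p.1) i p.2) :=
      differentiable_pi.2 fun j => by
        rcases eq_or_ne j i with rfl | hj
        · simp only [Function.update_self]; fun_prop
        · simp only [Function.update_of_ne hj]
          exact ((differentiable_pi.1 (hTdiff i)) j).comp differentiable_fst
    have hf : DifferentiableOn ℂ (fun p : (Fin n → ℂ) × ℂ => f i p.1 p.2) (ball 0 r ×ˢ ball 0 r) := by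
      refine hH.comp hupd.differentiableOn ?_
      rintro ⟨w, s⟩ ⟨hw, hs⟩
      rw [mem_ball_zero_iff] at hw hs ⊢
      refine (pi_norm_lt_iff hr).2 fun j => ?_
      rcases eq_or_ne j i with rfl | hj
      · simpa using hs
      · simp only [Function.update_of_ne hj, hT]
        split_ifs
        · exact lt_of_le_of_lt (norm_le_pi_norm w j) hw
        · simpa using hr
    have h1 := differentiableAt_dslope (p := (z, z i)) isOpen_ball isOpen_ball
      (closedBall_subset_ball (by linarith : r / 2 < r)) hf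
      (by exact ball_subset_ball (by linarith) hz) (by simpa using hz' i)
    exact (h1.comp z (f := fun w : Fin n → ℂ => (w, w i)) (by fun_prop)).differentiableWithinAt
  · have hstep : ∀ i : Fin n, H (T ((i : ℕ) + 1) z) = H (T i z) + z i * dslope (f i z) 0 (z i) := fun i => by
      have h0 : Function.update (T i z) i 0 = T i z := Function.update_eq_self_iff.2 (by simp [hT])
      have h1 : Function.update (T i z) i (z i) = T ((i : ℕ) + 1) z := funext fun j => by
        rcases eq_or_ne j i with rfl | hj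
        · simp [hT]
        · simp only [Function.update_of_ne hj, hT]
          have : (j : ℕ) ≠ i := Fin.val_ne_of_ne hj
          split_ifs <;> first | rfl | omega
      have h2 := sub_smul_dslope (f i z) 0 (z i)
      simp only [sub_zero, smul_eq_mul, f, h0, h1] at h2 ⊢
      rw [h2]; ring
    have htel : ∀ k ≤ n, H (T k z) = H 0 + ∑ i ∈ Finset.univ.filter (fun i : Fin n => (i : ℕ) < k),
        z i * dslope (f i z) 0 (z i) := by
      intro k
      induction k with
      | zero => intro _; simp [hT]; rfl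
      | succ k ih =>
        intro hk
        have hset : Finset.univ.filter (fun i : Fin n => (i : ℕ) < k + 1) =
            insert ⟨k, hk⟩ (Finset.univ.filter (fun i : Fin n => (i : ℕ) < k)) := by
          ext j; simp [Fin.ext_iff]; omega
        rw [hset, Finset.sum_insert (by simp), hstep ⟨k, hk⟩, ih (by omega)]
        ring
    have := htel n le_rfl
    rwa [show T n z = z from funext fun i => by simp [hT], Finset.filter_true_of_mem (fun i _ => i.2)] at this

end AnStalkLib
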