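import Groth.Agent.AnStalkLib.Flat
import Groth.Agent.HensGRingLib.Basic
import Groth.Agent.QuadHensLib.Hens
import Groth.Agent.GRingLib.FiniteType
import Groth.Agent.GeomRedFibLib.LocalPropSerre
import Groth.Agent.NormalLib.Regular
import Groth.Agent.S9295
import Groth.Agent.S0600
import Groth.Agent.S0599

/-!
# The map to the analytic local ring is regular
-/

set_option autoImplicit false

open CategoryTheory AlgebraicGeometry TopologicalSpace Topology An Opposite IsLocalRing

namespace AnStalkLib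

universe u

/-- A map to a Noetherian local ring with the same completion, out of a G-ring, is regular. -/
theorem isRegularHom_of_sameCompletion (A B : Type u) [CommRing A] [CommRing B] [IsLocalRing A] [IsLocalRing B]
    [IsNoetherianRing A] [IsNoetherianRing B] [Algebra A B] [IsLocalHom (algebraMap A B)] [Module.Flat A B]
    (hA : CAlg.IsGRing A) (hm : (maximalIdeal A).map (algebraMap A B) = maximalIdeal B)
    (hsurj : ∀ (n : ℕ) (b : B), ∃ a : A, b - algebraMap A B a ∈ maximalIdeal B ^ n) :
    CAlg.IsRegularHom A B := by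
  haveI : Module.FaithfullyFlat A B := Module.FaithfullyFlat.of_flat_of_isLocalHom
  obtain ⟨e⟩ := HensGRingLib.exists_cplAlgEquiv A B hm hsurj
  haveI := GeomRedFibLib.isNoetherianRing_cpl A
  haveI := GeomRedFibLib.faithfullyFlat_hat B
  exact Groth.Agent.S9295.result A B (EGA4.Cpl B)
    (HensGRingLib.isRegularHom_of_algEquiv e (Groth.Agent.S0600.result A hA _))
    PrimeSpectrum.comap_surjective_of_faithfullyFlat

theorem isRegularRing_fiber {A B : Type u} [CommRing A] [CommRing B] [Algebra A B] [IsNoetherianRing B]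
    (h : CAlg.IsRegularHom A B) (p : Ideal A) [p.IsPrime] : IsRegularRing (p.Fiber B) := by
  haveI : IsNoetherianRing (p.Fiber B) := GeomRedFibLib.isNoetherianRing_fiber A B p
  have := (h.2 p).2 p.ResidueField inferInstance
  exact IsRegularRing.of_ringEquiv (R := TensorProduct p.ResidueField p.ResidueField (p.Fiber B))
      (Algebra.TensorProduct.lid p.ResidueField (p.Fiber B)).toRingEquiv

theorem ringP_rk_fiber {A B : Type u} [CommRing A] [CommRing B] [Algebra A B] [IsNoetherianRing B]
    (h : CAlg.IsRegularHom A B) (k : ℕ) (p : Ideal A) [p.IsPrime] :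
    GeomRedFibLib.RingP (GeomRedFibLib.RkLoc k) (p.Fiber B) := by
  haveI := isRegularRing_fiber h p
  haveI : IsNoetherianRing (p.Fiber B) := GeomRedFibLib.isNoetherianRing_fiber A B p
  exact (GeomRedFibLib.hasRk_iff k _).1 fun q _ _ => IsRegularRing.isRegularLocalRing_localization q

theorem ringP_sk_fiber {A B : Type u} [CommRing A] [CommRing B] [Algebra A B] [IsNoetherianRing B]
    (h : CAlg.IsRegularHom A B) (k : ℕ) (p : Ideal A) [p.IsPrime] :
    GeomRedFibLib.RingP (GeomRedFibLib.SkLoc k) (p.Fiber B) := by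
  haveI := isRegularRing_fiber h p
  haveI : IsNoetherianRing (p.Fiber B) := GeomRedFibLib.isNoetherianRing_fiber A B p
  exact (GeomRedFibLib.hasSk_iff k _).1
    (NormalLib.hasSk_of_isRegular _ (fun q _ => IsRegularRing.isRegularLocalRing_localization q) k)

theorem ringP_rk_iff {A B : Type u} [CommRing A] [CommRing B] [IsLocalRing A] [IsLocalRing B] [IsNoetherianRing A]
    [IsNoetherianRing B] [Algebra A B] [Module.FaithfullyFlat A B] (h : CAlg.IsRegularHom A B) (k : ℕ) :
    GeomRedFibLib.RingP (GeomRedFibLib.RkLoc k) A ↔ GeomRedFibLib.RingP (GeomRedFibLib.RkLoc k) B :=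
  ⟨fun hA => GeomRedFibLib.RingP.asc (GeomRedFibLib.isFlatLocalProp_rkLoc k) A B hA fun p _ => ringP_rk_fiber h k p,
    fun hB => GeomRedFibLib.RingP.desc (GeomRedFibLib.isFlatLocalProp_rkLoc k) A B hB⟩

theorem ringP_sk_iff {A B : Type u} [CommRing A] [CommRing B] [IsLocalRing A] [IsLocalRing B] [IsNoetherianRing A]
    [IsNoetherianRing B] [Algebra A B] [Module.FaithfullyFlat A B] (h : CAlg.IsRegularHom A B) (k : ℕ) :
    GeomRedFibLib.RingP (GeomRedFibLib.SkLoc k) A ↔ GeomRedFibLib.RingP (GeomRedFibLib.SkLoc k) B :=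
  ⟨fun hA => GeomRedFibLib.RingP.asc (GeomRedFibLib.isFlatLocalProp_skLoc k) A B hA fun p _ => ringP_sk_fiber h k p,
    fun hB => GeomRedFibLib.RingP.desc (GeomRedFibLib.isFlatLocalProp_skLoc k) A B hB⟩

variable {X : Scheme.{0}} [X.Over SC] [LocallyOfFiniteType (X ↘ SC)] [IsReduced X]

omit [IsReduced X] in
theorem isGRing_stalk (x : Pts X) : CAlg.IsGRing (X.presheaf.stalk x.pt) := by
  obtain ⟨c⟩ := exists_chart x
  letI := (AnLib.strOn (X := X) c.U).toAlgebra
  haveI : Algebra.FiniteType ℂ Γ(X, c.U) := AnLib.finiteType_strOn c.hU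
  have hG : CAlg.IsGRing Γ(X, c.U) := Groth.Agent.S0599.result ℂ (QuadHens.isGRing_field ℂ) _
  letI := X.presheaf.algebra_section_stalk ⟨x.pt, c.hx⟩
  haveI := c.hU.isLocalization_stalk ⟨x.pt, c.hx⟩
  exact GRingLib.isGRing_of_isLocalization _ _ (c.hU.primeIdealOf ⟨x.pt, c.hx⟩).asIdeal.primeCompl hG

theorem isRegularHom_stalkHom (x : Pts X) :
    letI : Algebra (X.presheaf.stalk x.pt) (anStalk x) := (stalkHom x).toAlgebra
    CAlg.IsRegularHom (X.presheaf.stalk x.pt) (anStalk x) := by
  letI : Algebra (X.presheaf.stalk x.pt) (anStalk x) := (stalkHom x).toAlgebra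
  haveI := isNoetherianRing_stalk x
  haveI : IsLocalHom (algebraMap (X.presheaf.stalk x.pt) (anStalk x)) := isLocalHom_stalkHom x
  haveI : Module.Flat (X.presheaf.stalk x.pt) (anStalk x) := flat_stalkHom x
  refine isRegularHom_of_sameCompletion _ _ (isGRing_stalk x) (map_maximalIdeal x) fun n b => ?_
  obtain ⟨a, ha⟩ := surjective_mk_comp x n (Ideal.Quotient.mk _ b)
  exact ⟨a, Ideal.Quotient.eq.1 ha.symm⟩

theorem faithfullyFlat_stalkHom (x : Pts X) :
    letI : Algebra (X.presheaf.stalk x.pt) (anStalk x) := (stalkHom x).toAlgebra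
    Module.FaithfullyFlat (X.presheaf.stalk x.pt) (anStalk x) := by
  letI : Algebra (X.presheaf.stalk x.pt) (anStalk x) := (stalkHom x).toAlgebra
  haveI : IsLocalHom (algebraMap (X.presheaf.stalk x.pt) (anStalk x)) := isLocalHom_stalkHom x
  haveI : Module.Flat (X.presheaf.stalk x.pt) (anStalk x) := flat_stalkHom x
  exact Module.FaithfullyFlat.of_flat_of_isLocalHom

end AnStalkLib
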