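import Groth.Agent.AnStalkLib.Flat
import Groth.Agent.SweepSix.FlatCancel
import Groth.Agent.FlatCrit.Basic
import Groth.Agent.CatLib.Flat
import Mathlib.RingTheory.TensorProduct.Quotient
import Mathlib.RingTheory.Flat.FaithfullyFlat.Algebra

/-!
# The square of algebraic and analytic local rings of a morphism
-/

set_option autoImplicit false

open CategoryTheory AlgebraicGeometry TopologicalSpace Topology Filter An Opposite IsLocalRing

namespace AnStalkLib

universe u

/-- A local map inducing bijections modulo all powers of the maximal ideals. -/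
structure CompIso {A A' : Type u} [CommRing A] [CommRing A'] [IsLocalRing A] [IsLocalRing A'] (φ : A →+* A') : Prop where
  map_max : (maximalIdeal A).map φ = maximalIdeal A'
  surj : ∀ n, Function.Surjective ((Ideal.Quotient.mk (maximalIdeal A' ^ n)).comp φ)
  mem_iff : ∀ n a, φ a ∈ maximalIdeal A' ^ n ↔ a ∈ maximalIdeal A ^ n
  flat : φ.Flat

section algebra

variable {A A' B B' : Type u} [CommRing A] [CommRing A'] [CommRing B] [CommRing B']
  [IsLocalRing A] [IsLocalRing A'] [IsLocalRing B] [IsLocalRing B']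
  {φA : A →+* A'} {φB : B →+* B'} {g : A →+* B} {g' : A' →+* B'}

omit [IsLocalRing A] in
theorem CompIso.isLocalHom [IsLocalRing A] {φ : A →+* A'} (h : CompIso φ) : IsLocalHom φ :=
  ((local_hom_TFAE φ).out 0 2).2 h.map_max.le

theorem flat_of_flat' (hA : CompIso φA) (hB : CompIso φB) (hsq : φB.comp g = g'.comp φA) (h : g'.Flat) :
    g.Flat := by
  haveI := hB.isLocalHom
  exact SweepSix.flat_of_comp g φB hB.flat (hsq ▸ RingHom.Flat.comp hA.flat h)

theorem flat'_of_flat [IsNoetherianRing A'] [IsNoetherianRing B'] (hA : CompIso φA) (hB : CompIso φB)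
    [IsLocalHom g'] (hsq : φB.comp g = g'.comp φA) (h : g.Flat) : g'.Flat := by
  have hcomp : (g'.comp φA).Flat := hsq ▸ RingHom.Flat.comp h hB.flat
  letI : Algebra A' B' := g'.toAlgebra
  letI : Algebra A B' := (g'.comp φA).toAlgebra
  haveI : Module.Flat A B' := hcomp
  show Module.Flat A' B'
  refine FlatCrit.flat_of_flat_quotient_pow (R := A') (S := B') (M := B') (maximalIdeal A') ?_ fun m => ?_
  · rw [IsLocalRing.jacobson_eq_maximalIdeal ⊥ bot_ne_top]
    exact ((local_hom_TFAE g').out 0 2).1 ‹_›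
  set J := (maximalIdeal A' ^ m).map (algebraMap A' B') with hJ
  have hmap : (maximalIdeal A ^ m).map (algebraMap A B') = J := by
    rw [hJ, show algebraMap A B' = g'.comp φA from rfl, ← Ideal.map_map, Ideal.map_pow φA, hA.map_max]
    rfl
  let e : A ⧸ maximalIdeal A ^ m →+* A' ⧸ maximalIdeal A' ^ m :=
    Ideal.quotientMap _ φA fun a ha => (hA.mem_iff m a).2 ha
  have he : Function.Bijective e := by
    refine ⟨(injective_iff_map_eq_zero _).2 fun x hx => ?_, fun y => ?_⟩
    · obtain ⟨a, rfl⟩ := Ideal.Quotient.mk_surjective x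
      simp only [e, Ideal.quotientMap_mk] at hx
      exact Ideal.Quotient.eq_zero_iff_mem.2 ((hA.mem_iff m a).1 (Ideal.Quotient.eq_zero_iff_mem.1 hx))
    · obtain ⟨a, ha⟩ := hA.surj m y
      exact ⟨Ideal.Quotient.mk _ a, by simpa [e, Ideal.quotientMap_mk] using ha⟩
  let ee := RingEquiv.ofBijective e he
  let q : A' ⧸ maximalIdeal A' ^ m →+* B' ⧸ J := Ideal.quotientMap J g' Ideal.le_comap_map
  let r : A ⧸ maximalIdeal A ^ m →+* B' ⧸ J :=
    Ideal.quotientMap J (g'.comp φA) (fun a ha => by rw [← hmap]; exact Ideal.mem_map_of_mem _ ha)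
  have hr : r.Flat := by
    haveI : Module.Flat A B' := hcomp
    have h1 : Module.Flat (A ⧸ maximalIdeal A ^ m) (B' ⧸ (maximalIdeal A ^ m).map (algebraMap A B')) :=
      CatLib.flat_quotient (maximalIdeal A ^ m)
    have h2 : (Ideal.quotientMap ((maximalIdeal A ^ m).map (algebraMap A B')) (algebraMap A B')
        Ideal.le_comap_map).Flat := RingHom.flat_algebraMap_iff.2 h1
    let c : B' ⧸ (maximalIdeal A ^ m).map (algebraMap A B') ≃+* B' ⧸ J := Ideal.quotEquivOfEq hmap
    have hc : r = c.toRingHom.comp (Ideal.quotientMap ((maximalIdeal A ^ m).map (algebraMap A B'))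
        (algebraMap A B') Ideal.le_comap_map) := Ideal.Quotient.ringHom_ext (RingHom.ext fun a => rfl)
    rw [hc]
    exact RingHom.Flat.comp h2 (RingHom.Flat.of_bijective c.bijective)
  have hq : q.Flat := by
    have hqr : q = r.comp ee.symm.toRingHom := by
      refine RingHom.ext fun x => ?_
      obtain ⟨y, rfl⟩ := ee.surjective x
      obtain ⟨a, rfl⟩ := Ideal.Quotient.mk_surjective y
      rw [RingHom.comp_apply, show ee.symm.toRingHom (ee (Ideal.Quotient.mk _ a)) = Ideal.Quotient.mk _ a from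
        ee.symm_apply_apply _]
      rfl
    rw [hqr]
    exact RingHom.Flat.comp (RingHom.Flat.of_bijective ee.symm.bijective) hr
  let e' := ((Algebra.TensorProduct.comm A' (A' ⧸ maximalIdeal A' ^ m) B').trans
    ((Algebra.TensorProduct.quotIdealMapEquivTensorQuot B' (maximalIdeal A' ^ m)).restrictScalars A').symm)
  haveI : Module.Flat (A' ⧸ maximalIdeal A' ^ m) (B' ⧸ J) := RingHom.flat_algebraMap_iff.1 hq
  exact Module.Flat.of_linearEquiv
    (LinearEquiv.extendScalarsOfSurjective (R := A') (S := A' ⧸ maximalIdeal A' ^ m) Ideal.Quotient.mk_surjective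
      e'.toLinearEquiv)

theorem map_max_iff (hA : CompIso φA) (hB : CompIso φB) (hsq : φB.comp g = g'.comp φA) :
    (maximalIdeal A).map g = maximalIdeal B ↔ (maximalIdeal A').map g' = maximalIdeal B' := by
  have h1 : (maximalIdeal A').map g' = ((maximalIdeal A).map g).map φB := by
    rw [← hA.map_max, Ideal.map_map, Ideal.map_map, hsq]
  refine ⟨fun h => by rw [h1, h, hB.map_max], fun h => ?_⟩
  haveI := hB.isLocalHom
  letI := φB.toAlgebra
  haveI : IsLocalHom (algebraMap B B') := hB.isLocalHom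
  haveI : Module.Flat B B' := hB.flat
  haveI : Module.FaithfullyFlat B B' := Module.FaithfullyFlat.of_flat_of_isLocalHom
  have h2 := congrArg (Ideal.comap (algebraMap B B')) (h1.symm.trans h)
  rw [show φB = algebraMap B B' from rfl, Ideal.comap_map_eq_self_of_faithfullyFlat] at h2
  rw [h2]
  exact IsLocalRing.maximalIdeal_comap (algebraMap B B')

end algebra

variable {X : Scheme.{0}} [X.Over SC] [LocallyOfFiniteType (X ↘ SC)] [IsReduced X]

theorem compIso_stalkHom (x : Pts X) : CompIso (stalkHom x) :=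
  ⟨map_maximalIdeal x, surjective_mk_comp x, stalkHom_mem_pow_iff x, flat_stalkHom x⟩

variable {Y : Scheme.{0}} [Y.Over SC] [LocallyOfFiniteType (Y ↘ SC)] [IsReduced Y] (f : X ⟶ Y) [f.IsOver SC]

/-- The map of analytic local rings. -/
noncomputable abbrev anStalkMap (x : Pts X) : anStalk (Pts.map f x) →+* anStalk x :=
  (PresheafedSpace.Hom.stalkMap (anMap f) x).hom

/-- The map of algebraic local rings. -/
noncomputable abbrev algStalkMap (x : Pts X) : Y.presheaf.stalk (Pts.map f x).pt →+* X.presheaf.stalk x.pt :=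
  (f.stalkMap x.pt).hom

omit [LocallyOfFiniteType (X ↘ SC)] [IsReduced X] [LocallyOfFiniteType (Y ↘ SC)] [IsReduced Y] in
theorem toGerm_anStalkMap (x : Pts X) (o : anStalk (Pts.map f x)) :
    toGerm x (anStalkMap f x o) =
      (toGerm (Pts.map f x) o).compTendsto (Pts.map f) ((Pts.continuous_map f).tendsto x) := by
  obtain ⟨V, hV, s, rfl⟩ := TopCat.Presheaf.germ_exist (anSpace Y).presheaf o
  have h := PresheafedSpace.stalkMap_germ (anMap f) V x hV
  rw [show anStalkMap f x ((anSpace Y).presheaf.germ V _ hV s) =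
    (anSpace X).presheaf.germ _ x hV ((anMap f).c.app (op V) s) from congrArg (fun k => k.hom s) h,
    toGerm_germ, toGerm_germ]
  refine Germ.coe_eq.2 ((((Opens.map (topMap f)).obj V).2.eventually_mem hV).mono fun y hy => ?_)
  exact (extendFun_eq _ hy).trans (extendFun_eq s.1 (show Pts.map f y ∈ V from hy)).symm

omit [LocallyOfFiniteType (X ↘ SC)] [IsReduced X] [LocallyOfFiniteType (Y ↘ SC)] [IsReduced Y] in
theorem square (x : Pts X) :
    (stalkHom x).comp (algStalkMap f x) = (anStalkMap f x).comp (stalkHom (Pts.map f x)) := by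
  refine RingHom.ext fun a => toGerm_injective x ?_
  obtain ⟨W, hW, b, rfl⟩ := TopCat.Presheaf.germ_exist Y.presheaf a
  rw [RingHom.comp_apply, RingHom.comp_apply, toGerm_anStalkMap, toGerm_stalkHom _ W hW]
  rw [show algStalkMap f x (Y.presheaf.germ W _ hW b) = X.presheaf.germ (f ⁻¹ᵁ W) x.pt hW (f.app W b) from
    Scheme.Hom.germ_stalkMap_apply f W x.pt hW b, toGerm_stalkHom x (f ⁻¹ᵁ W) hW]
  refine Germ.coe_eq.2 (((Pts.isOpen_preimage_pt (f ⁻¹ᵁ W)).eventually_mem hW).mono fun y hy => ?_)
  exact AnLib.evOn_app f W b y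

omit [IsReduced Y] [LocallyOfFiniteType (Y ↘ SC)] [IsReduced X] [LocallyOfFiniteType (X ↘ SC)] in
theorem isLocalHom_algStalkMap (x : Pts X) : IsLocalHom (algStalkMap f x) := f.toLRSHom.prop x.pt

theorem isLocalHom_anStalkMap (x : Pts X) : IsLocalHom (anStalkMap f x) := by
  refine ((local_hom_TFAE (anStalkMap f x)).out 0 2).2 ?_
  have hl := isLocalHom_algStalkMap f x
  rw [← map_maximalIdeal (Pts.map f x), Ideal.map_map, ← square, ← Ideal.map_map, ← map_maximalIdeal x]
  exact Ideal.map_mono (((local_hom_TFAE (algStalkMap f x)).out 0 2).1 hl)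

theorem flat_iff (x : Pts X) : (algStalkMap f x).Flat ↔ (anStalkMap f x).Flat := by
  haveI := isNoetherianRing_stalk (Pts.map f x)
  haveI := isLocalHom_anStalkMap f x
  exact ⟨flat'_of_flat (compIso_stalkHom (Pts.map f x)) (compIso_stalkHom x) (square f x),
    flat_of_flat' (compIso_stalkHom (Pts.map f x)) (compIso_stalkHom x) (square f x)⟩

end AnStalkLib
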