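import Groth.Agent.AnLib.HolAffine
import Groth.Agent.AnStalkLib.Germ
import Mathlib.Topology.Sheaves.Stalks

/-!
# Stalks of the sheaf of holomorphic functions as rings of germs
-/

set_option autoImplicit false

open CategoryTheory CategoryTheory.Limits AlgebraicGeometry TopologicalSpace Topology Filter An Opposite

namespace AnStalkLib

variable {X : Scheme.{0}} [X.Over SC]

/-- The local ring of `X(ℂ)` at a point. -/
noncomputable abbrev anStalk (x : Pts X) : CommRingCat.{0} := (anSpace X).presheaf.stalk x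

/-- The map from algebraic to analytic germs. -/
noncomputable abbrev stalkHom (x : Pts X) : X.presheaf.stalk x.pt →+* anStalk x :=
  (PresheafedSpace.Hom.stalkMap (anToScheme X) x).hom

open Classical in
/-- Extension of a function on an open by zero. -/
noncomputable def extendFun (U : Opens (top X)) (f : U → ℂ) (y : Pts X) : ℂ :=
  if h : y ∈ U then f ⟨y, h⟩ else 0

theorem extendFun_eq {U : Opens (top X)} (f : U → ℂ) {y : Pts X} (h : y ∈ U) :
    extendFun U f y = f ⟨y, h⟩ := dif_pos h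

/-- The germ of a section. -/
noncomputable def secGerm (x : Pts X) (U : Opens (top X)) (hx : x ∈ U) :
    (holPresheaf X).obj (op U) →+* Germ (𝓝 x) ℂ where
  toFun f := (↑(extendFun U f.1) : Germ (𝓝 x) ℂ)
  map_one' := Germ.coe_eq.2 ((U.2.eventually_mem hx).mono fun y hy => extendFun_eq _ hy)
  map_zero' := Germ.coe_eq.2 ((U.2.eventually_mem hx).mono fun y hy => extendFun_eq _ hy)
  map_mul' f g := Germ.coe_eq.2 ((U.2.eventually_mem hx).mono fun y hy => by
    show extendFun U _ y = extendFun U _ y * extendFun U _ y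
    rw [extendFun_eq _ hy, extendFun_eq _ hy, extendFun_eq _ hy]; rfl)
  map_add' f g := Germ.coe_eq.2 ((U.2.eventually_mem hx).mono fun y hy => by
    show extendFun U _ y = extendFun U _ y + extendFun U _ y
    rw [extendFun_eq _ hy, extendFun_eq _ hy, extendFun_eq _ hy]; rfl)

/-- The cocone of germs of functions. -/
noncomputable def germCocone (x : Pts X) :
    Cocone ((OpenNhds.inclusion (X := top X) x).op ⋙ holPresheaf X) where
  pt := CommRingCat.of (Germ (𝓝 x) ℂ)
  ι :=
    { app := fun U => CommRingCat.ofHom (secGerm x U.unop.1 U.unop.2)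
      naturality := fun U V i => by
        refine CommRingCat.hom_ext (RingHom.ext fun f => ?_)
        refine Germ.coe_eq.2 ((V.unop.1.2.eventually_mem V.unop.2).mono fun y hy => ?_)
        have hyU : y ∈ U.unop.1 := ((OpenNhds.inclusion (X := top X) x).map i.unop).le hy
        exact (extendFun_eq _ hy).trans (extendFun_eq f.1 hyU).symm }

/-- Germs of holomorphic functions as germs of functions. -/
noncomputable def toGerm (x : Pts X) : anStalk x →+* Germ (𝓝 x) ℂ :=
  (colimit.desc _ (germCocone x)).hom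

theorem toGerm_germ (x : Pts X) (U : Opens (top X)) (hx : x ∈ U) (f : (holPresheaf X).obj (op U)) :
    toGerm x ((anSpace X).presheaf.germ U x hx f) = ↑(extendFun U f.1) := by
  have h := colimit.ι_desc (germCocone x) (op ⟨U, hx⟩)
  exact congrArg (fun k => k.hom f) h

theorem toGerm_injective (x : Pts X) : Function.Injective (toGerm x) := by
  refine (injective_iff_map_eq_zero _).2 fun a ha => ?_
  obtain ⟨U, hx, f, rfl⟩ := TopCat.Presheaf.germ_exist (anSpace X).presheaf a
  rw [toGerm_germ] at ha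
  obtain ⟨V, hV, hVo, hxV⟩ := eventually_nhds_iff.1 (Germ.coe_eq.1 ha)
  let W : Opens (top X) := ⟨V, hVo⟩ ⊓ U
  rw [← TopCat.Presheaf.germ_res_apply (anSpace X).presheaf (homOfLE (inf_le_right : W ≤ U)) x ⟨hxV, hx⟩]
  refine (congrArg ((anSpace X).presheaf.germ W x ⟨hxV, hx⟩).hom (?_ : _ = (0 : (holPresheaf X).obj (op W)))).trans
    (map_zero _)
  exact Subtype.ext (funext fun y => (extendFun_eq f.1 y.2.2).symm.trans (hV y.1 y.2.1))

theorem toGerm_stalkHom (x : Pts X) (W : X.Opens) (hx : x.pt ∈ W) (a : Γ(X, W)) :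
    toGerm x (stalkHom x (X.presheaf.germ W x.pt hx a)) = ↑(AnLib.evOn W a) := by
  have h := PresheafedSpace.stalkMap_germ (anToScheme X) W x hx
  rw [show stalkHom x (X.presheaf.germ W x.pt hx a) = (anSpace X).presheaf.germ _ x hx ((anToScheme X).c.app (op W) a) from
    congrArg (fun k => k.hom a) h, toGerm_germ]
  exact Germ.coe_eq.2 (((Pts.isOpen_preimage_pt W).eventually_mem hx).mono fun y hy =>
    (extendFun_eq _ (show y ∈ _ from hy)).trans (AnLib.evOn_eq a hy).symm)

/-- Coordinates on an affine chart centred at a point. -/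
structure Chart (x : Pts X) where
  /-- the affine open -/
  U : X.Opens
  hU : IsAffineOpen U
  hx : x.pt ∈ U
  /-- the number of coordinates -/
  n : ℕ
  /-- the coordinates -/
  z : Fin n → Γ(X, U)
  surj : Function.Surjective (MvPolynomial.eval₂Hom (AnLib.strOn U) z)
  hz : ∀ i, x.ev U hx (z i) = 0

theorem exists_chart [LocallyOfFiniteType (X ↘ SC)] (x : Pts X) : Nonempty (Chart x) := by
  obtain ⟨U, hU, hxU, -⟩ := exists_isAffineOpen_mem_and_subset (x := x.pt) (U := ⊤) trivial
  obtain ⟨n, s, hs⟩ := AnLib.exists_gens hU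
  refine ⟨⟨U, hU, hxU, n, fun i => s i - AnLib.strOn U (x.ev U hxU (s i)), ?_, fun i => ?_⟩⟩
  · intro b
    obtain ⟨p, rfl⟩ := hs b
    refine ⟨MvPolynomial.bind₁ (fun i => MvPolynomial.X i + MvPolynomial.C (x.ev U hxU (s i))) p, ?_⟩
    induction p using MvPolynomial.induction_on with
    | C c => simp
    | add p q hp hq => simp only [map_add, hp, hq]
    | mul_X p i hp => simp [map_mul, hp]
  · show AnLib.evHom x U hxU _ = 0
    rw [map_sub]
    exact sub_eq_zero.2 (AnLib.ev_strOn x U hxU _).symm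

namespace Chart

variable {x : Pts X} (c : Chart x)

/-- The coordinate map, extended by zero. -/
noncomputable def Z (y : Pts X) : Fin c.n → ℂ := fun i => AnLib.evOn c.U (c.z i) y

theorem Z_self : c.Z x = 0 := funext fun i => (AnLib.evOn_eq _ c.hx).trans (c.hz i)

theorem tendsto_Z : Tendsto c.Z (𝓝 x) (𝓝 0) := by
  rw [← c.Z_self]
  exact (continuousAt_pi.2 fun i => AnLib.continuousAt_evOn (c.z i) c.hx).tendsto

theorem eventually_mem : ∀ᶠ y in 𝓝 x, y.pt ∈ c.U := (Pts.isOpen_preimage_pt c.U).eventually_mem c.hx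

theorem nhds_eq : 𝓝 x = comap c.Z (𝓝 0) ⊓ 𝓟 {y | y.pt ∈ c.U} := by
  refine le_antisymm (le_inf c.tendsto_Z.le_comap (le_principal_iff.2 c.eventually_mem)) ?_
  refine AnLib.tendsto_nhds_of_gens (g := id) c.hU c.hx (mem_inf_of_right (mem_principal_self _)) c.z c.surj fun i => ?_
  have h1 : Tendsto (fun y => c.Z y i) (comap c.Z (𝓝 0)) (𝓝 0) := by
    exact (tendsto_pi_nhds.1 (tendsto_comap (f := c.Z) (x := 𝓝 0))) i
  rw [show AnLib.evOn c.U (c.z i) x = 0 from (AnLib.evOn_eq _ c.hx).trans (c.hz i)]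
  exact h1.mono_left inf_le_left

theorem evOn_eval₂ {y : Pts X} (hy : y.pt ∈ c.U) (p : MvPolynomial (Fin c.n) ℂ) :
    AnLib.evOn c.U (MvPolynomial.eval₂Hom (AnLib.strOn c.U) c.z p) y = MvPolynomial.eval (c.Z y) p := by
  rw [AnLib.evOn_eq _ hy]
  have h1 : (AnLib.evHom y c.U hy).comp (MvPolynomial.eval₂Hom (AnLib.strOn c.U) c.z) = MvPolynomial.eval (c.Z y) := by
    refine MvPolynomial.ringHom_ext (fun r => ?_) (fun i => ?_)
    · simp only [RingHom.comp_apply, MvPolynomial.eval₂Hom_C, MvPolynomial.eval_C]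
      exact AnLib.ev_strOn y c.U hy r
    · simp only [RingHom.comp_apply, MvPolynomial.eval₂Hom_X', MvPolynomial.eval_X]
      exact (AnLib.evOn_eq _ hy).symm
  exact RingHom.congr_fun h1 p

theorem exists_hol_evOn {W : X.Opens} (f : Γ(X, W)) (hxW : x.pt ∈ W) :
    ∃ H : (Fin c.n → ℂ) → ℂ, DiffNear H 0 ∧ ∀ᶠ y in 𝓝 x, AnLib.evOn W f y = H (c.Z y) := by
  obtain ⟨a, q, m, hq, hev⟩ := AnLib.exists_eventually_eq_div c.hU f c.hx hxW
  obtain ⟨pa, rfl⟩ := c.surj a
  obtain ⟨pq, rfl⟩ := c.surj q
  rw [c.evOn_eval₂ c.hx, c.Z_self] at hq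
  refine ⟨fun z => MvPolynomial.eval z pa / MvPolynomial.eval z pq ^ m, ?_, ?_⟩
  · have h1 : ∀ᶠ z in 𝓝 (0 : Fin c.n → ℂ), MvPolynomial.eval z pq ≠ 0 :=
      (MvPolynomial.continuous_eval pq).continuousAt.eventually_ne hq
    exact h1.mono fun z hz => (AnLib.differentiable_eval pa z).fun_mul
      (((AnLib.differentiable_eval pq z).fun_pow m).inv (pow_ne_zero _ hz))
  · filter_upwards [hev, c.eventually_mem] with y hy hyU
    rw [hy, c.evOn_eval₂ hyU, c.evOn_eval₂ hyU]

/-- Composition with the coordinates. -/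
noncomputable def omega : holGerm (Fin c.n → ℂ) →+* Germ (𝓝 x) ℂ where
  toFun a := a.1.compTendsto c.Z c.tendsto_Z
  map_one' := rfl
  map_zero' := rfl
  map_mul' a b := by
    obtain ⟨_, f, hf, rfl⟩ := a; obtain ⟨_, g, hg, rfl⟩ := b; rfl
  map_add' a b := by
    obtain ⟨_, f, hf, rfl⟩ := a; obtain ⟨_, g, hg, rfl⟩ := b; rfl

theorem omega_mk {H : (Fin c.n → ℂ) → ℂ} (hH : DiffNear H 0) : c.omega (HolGerm.mk H hH) = ↑(H ∘ c.Z) := rfl

theorem omega_mem_range (a : holGerm (Fin c.n → ℂ)) : ∃ o : anStalk x, toGerm x o = c.omega a := by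
  obtain ⟨H, hH, rfl⟩ := HolGerm.exists_rep a
  obtain ⟨r, hr, hHr⟩ := Metric.eventually_nhds_iff_ball.1 hH
  obtain ⟨V, hV, hVo, hxV⟩ := eventually_nhds_iff.1
    (c.eventually_mem.and (c.tendsto_Z.eventually (Metric.ball_mem_nhds 0 hr)))
  let T : Opens (top X) := ⟨V, hVo⟩
  let f : T → ℂ := fun y => H (c.Z y.1)
  have hf : IsChartFun T f := ⟨c.U, fun y => (hV y.1 y.2).1, c.n, c.z, Metric.ball 0 r, H, Metric.isOpen_ball,
    fun v hv => (hHr v hv).differentiableWithinAt, fun y => by
      have hval : (fun i => y.1.ev c.U (hV y.1 y.2).1 (c.z i)) = c.Z y.1 :=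
        funext fun i => (AnLib.evOn_eq _ (hV y.1 y.2).1).symm
      rw [hval]
      exact ⟨(hV y.1 y.2).2, rfl⟩⟩
  refine ⟨(anSpace X).presheaf.germ T x hxV ⟨f, holPred_of_chartAlg (Algebra.subset_adjoin hf)⟩, ?_⟩
  rw [toGerm_germ, omega_mk]
  exact Germ.coe_eq.2 ((hVo.eventually_mem hxV).mono fun y hy => extendFun_eq f (show y ∈ T from hy))

theorem toGerm_mem_range (o : anStalk x) : ∃ a : holGerm (Fin c.n → ℂ), c.omega a = toGerm x o := by
  obtain ⟨T, hxT, f, rfl⟩ := TopCat.Presheaf.germ_exist (anSpace X).presheaf o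
  rw [toGerm_germ]
  obtain ⟨T', hxT', i, hf⟩ := f.2 ⟨x, hxT⟩
  have key : ∀ k ∈ chartAlg T', ∃ a : holGerm (Fin c.n → ℂ), c.omega a = ↑(extendFun T' k) := by
    intro k hk
    induction hk using Algebra.adjoin_induction with
    | mem k hk =>
      obtain ⟨W, hW, m, s, V, G, hV, hG, hk⟩ := hk
      choose H hH hHev using fun j => c.exists_hol_evOn (s j) (hW ⟨x, hxT'⟩)
      have h0 : (fun j => H j 0) ∈ V := by
        have : (fun j => H j 0) = fun j => x.ev W (hW ⟨x, hxT'⟩) (s j) := funext fun j => by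
          rw [← AnLib.evOn_eq, (hHev j).self_of_nhds, c.Z_self]
        rw [this]; exact (hk ⟨x, hxT'⟩).1
      have hd : DiffNear (fun z => G fun j => H j z) 0 := by
        have hc : ContinuousAt (fun z => fun j => H j z) 0 :=
          continuousAt_pi.2 fun j => (hH j).self_of_nhds.continuousAt
        filter_upwards [hc.eventually_mem (hV.mem_nhds h0), eventually_all.2 hH] with z hz hzd
        exact (hG.differentiableAt (hV.mem_nhds hz)).comp z (differentiableAt_pi.2 hzd)
      refine ⟨HolGerm.mk _ hd, ?_⟩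
      rw [omega_mk]
      refine Germ.coe_eq.2 ?_
      filter_upwards [(T'.2.eventually_mem hxT'), eventually_all.2 hHev] with y hy hyH
      rw [extendFun_eq k hy, (hk ⟨y, hy⟩).2, Function.comp_apply]
      exact congrArg G (funext fun j => ((AnLib.evOn_eq _ _).symm.trans (hyH j)).symm)
    | algebraMap r =>
      refine ⟨HolGerm.mk (fun _ => r) (Eventually.of_forall fun _ => differentiableAt_const _), ?_⟩
      rw [omega_mk]
      refine Germ.coe_eq.2 ((T'.2.eventually_mem hxT').mono fun y hy => ?_)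
      rw [extendFun_eq _ hy]; rfl
    | add k l _ _ hk hl =>
      obtain ⟨a, ha⟩ := hk
      obtain ⟨b, hb⟩ := hl
      refine ⟨a + b, ?_⟩
      rw [map_add, ha, hb, ← Germ.coe_add]
      refine Germ.coe_eq.2 ((T'.2.eventually_mem hxT').mono fun y hy => ?_)
      rw [Pi.add_apply, extendFun_eq _ hy, extendFun_eq _ hy, extendFun_eq _ hy]; rfl
    | mul k l _ _ hk hl =>
      obtain ⟨a, ha⟩ := hk
      obtain ⟨b, hb⟩ := hl
      refine ⟨a * b, ?_⟩
      rw [map_mul, ha, hb, ← Germ.coe_mul]
      refine Germ.coe_eq.2 ((T'.2.eventually_mem hxT').mono fun y hy => ?_)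
      rw [Pi.mul_apply, extendFun_eq _ hy, extendFun_eq _ hy, extendFun_eq _ hy]; rfl
  obtain ⟨a, ha⟩ := key _ hf
  refine ⟨a, ha.trans (Germ.coe_eq.2 ((T'.2.eventually_mem hxT').mono fun y hy => ?_))⟩
  exact (extendFun_eq _ hy).trans (extendFun_eq f.1 (leOfHom i hy)).symm

/-- The surjection from germs in affine space. -/
noncomputable def psi : holGerm (Fin c.n → ℂ) →+* anStalk x where
  toFun a := (c.omega_mem_range a).choose
  map_one' := toGerm_injective x (by rw [(c.omega_mem_range 1).choose_spec, map_one, map_one])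
  map_zero' := toGerm_injective x (by rw [(c.omega_mem_range 0).choose_spec, map_zero, map_zero])
  map_mul' a b := toGerm_injective x (by
    rw [map_mul (toGerm x), (c.omega_mem_range (a * b)).choose_spec, (c.omega_mem_range a).choose_spec,
      (c.omega_mem_range b).choose_spec, map_mul])
  map_add' a b := toGerm_injective x (by
    rw [map_add (toGerm x), (c.omega_mem_range (a + b)).choose_spec, (c.omega_mem_range a).choose_spec,
      (c.omega_mem_range b).choose_spec, map_add])

theorem toGerm_psi (a : holGerm (Fin c.n → ℂ)) : toGerm x (c.psi a) = c.omega a :=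
  (c.omega_mem_range a).choose_spec

theorem psi_surjective : Function.Surjective c.psi := fun o => by
  obtain ⟨a, ha⟩ := c.toGerm_mem_range o
  exact ⟨a, toGerm_injective x ((c.toGerm_psi a).trans ha)⟩

end Chart

end AnStalkLib
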