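import Groth.Agent.AnStalkLib.Osgood
import Mathlib.Analysis.Analytic.Order
import Mathlib.Algebra.Polynomial.BigOperators
import Mathlib.Analysis.Calculus.Deriv.Polynomial
import Mathlib.Analysis.Complex.Liouville
import Mathlib.LinearAlgebra.Matrix.NonsingularInverse
import Mathlib.LinearAlgebra.Matrix.ToLin
import Mathlib.Topology.Instances.Matrix

/-!
# The Weierstrass division theorem for holomorphic functions
-/

set_option autoImplicit false

open Filter Metric Set Complex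
open scoped Topology Real

namespace AnStalkLib

/-- Differentiable in a neighbourhood of the point. -/
def DiffNear {E : Type*} [NormedAddCommGroup E] [NormedSpace ℂ E] (f : E → ℂ) (x : E) : Prop :=
  ∀ᶠ y in 𝓝 x, DifferentiableAt ℂ f y

/-- The monic polynomial with the given roots. -/
noncomputable def rootsPoly (L : Multiset ℂ) : Polynomial ℂ := (L.map fun a => Polynomial.X - Polynomial.C a).prod

theorem rootsPoly_cons (a : ℂ) (L : Multiset ℂ) (z : ℂ) :
    (rootsPoly (a ::ₘ L)).eval z = (z - a) * (rootsPoly L).eval z := by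
  simp [rootsPoly]

theorem rootsPoly_eval_ne_zero {L : Multiset ℂ} {z : ℂ} (h : z ∉ L) : (rootsPoly L).eval z ≠ 0 := by
  induction L using Multiset.induction with
  | empty => simp [rootsPoly]
  | cons a L ih =>
    rw [Multiset.mem_cons, not_or] at h
    rw [rootsPoly_cons]
    exact mul_ne_zero (sub_ne_zero.2 h.1) (ih h.2)

/-- Either a function has fewer than `t` zeros in a disc, or at least `t`. -/
theorem exists_roots {g : ℂ → ℂ} {R : ℝ} {V : Set ℂ} (hV : IsOpen V) (hRV : closedBall 0 R ⊆ V)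
    (hg : DifferentiableOn ℂ g V) (hne : ∀ ζ ∈ sphere (0 : ℂ) R, g ζ ≠ 0) (t : ℕ) :
    (∃ (L : Multiset ℂ) (v : ℂ → ℂ), L.card < t ∧ (∀ a ∈ L, a ∈ ball (0 : ℂ) R) ∧ DifferentiableOn ℂ v V ∧
      (∀ z ∈ closedBall (0 : ℂ) R, v z ≠ 0) ∧ ∀ z, g z = (rootsPoly L).eval z * v z) ∨
    ∃ (L : Multiset ℂ) (v : ℂ → ℂ), L.card = t ∧ (∀ a ∈ L, a ∈ ball (0 : ℂ) R) ∧ DifferentiableOn ℂ v V ∧
      ∀ z, g z = (rootsPoly L).eval z * v z := by
  induction t with
  | zero => exact Or.inr ⟨0, g, rfl, by simp, hg, fun z => by simp [rootsPoly]⟩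
  | succ t ih =>
    rcases ih with ⟨L, v, hL, h1, h2, h3, h4⟩ | ⟨L, v, hL, h1, h2, h4⟩
    · exact Or.inl ⟨L, v, hL.trans (Nat.lt_succ_self t), h1, h2, h3, h4⟩
    by_cases hz : ∀ z ∈ closedBall (0 : ℂ) R, v z ≠ 0
    · exact Or.inl ⟨L, v, by omega, h1, h2, hz, h4⟩
    simp only [ne_eq, not_forall, not_not] at hz
    obtain ⟨a, ha, hva⟩ := hz
    have haR : a ∈ ball (0 : ℂ) R := by
      rcases (ball_union_sphere (x := (0 : ℂ)) (ε := R)).symm ▸ ha with h | h
      · exact h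
      · exact absurd (by rw [h4 a, hva, mul_zero]) (hne a h)
    refine Or.inr ⟨a ::ₘ L, dslope v a, by rw [Multiset.card_cons, hL], ?_,
      (Complex.differentiableOn_dslope (hV.mem_nhds (hRV ha))).2 h2, fun z => ?_⟩
    · intro b hb
      rcases Multiset.mem_cons.1 hb with rfl | hb
      exacts [haR, h1 b hb]
    · have h5 := sub_smul_dslope v a z
      rw [hva, sub_zero, smul_eq_mul] at h5
      rw [h4, rootsPoly_cons, mul_comm (z - a), mul_assoc, h5]

theorem norm_prod_one_add_sub_one_le {x : ℝ} (hx : 0 ≤ x) {L : Multiset ℂ} {c : ℂ → ℂ}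
    (hc : ∀ a ∈ L, ‖c a‖ ≤ x) : ‖(L.map fun a => 1 + c a).prod - 1‖ ≤ (1 + x) ^ L.card - 1 := by
  induction L using Multiset.induction with
  | empty => simp
  | cons a L ih =>
    simp only [Multiset.map_cons, Multiset.prod_cons, Multiset.card_cons, pow_succ]
    set p := (L.map fun a => 1 + c a).prod
    have h1 := ih fun b hb => hc b (Multiset.mem_cons_of_mem hb)
    have h2 := hc a (Multiset.mem_cons_self a L)
    have h3 : ‖p‖ ≤ (1 + x) ^ L.card := by
      have := norm_le_norm_add_norm_sub' p 1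
      rw [norm_one] at this; linarith
    calc ‖(1 + c a) * p - 1‖ = ‖(p - 1) + c a * p‖ := by ring_nf
      _ ≤ ((1 + x) ^ L.card - 1) + x * (1 + x) ^ L.card :=
        (norm_add_le _ _).trans (add_le_add h1 ((norm_mul _ _).le.trans (mul_le_mul h2 h3 (norm_nonneg _) hx)))
      _ = _ := by ring

/-- Divisibility from vanishing of finitely many moments. -/
theorem dvd_of_moments {R : ℝ} {V : Set ℂ} (hV : IsOpen V) (hRV : closedBall 0 R ⊆ V) (L : Multiset ℂ) :
    ∀ {k : ℂ → ℂ}, DifferentiableOn ℂ k V → (∀ a ∈ L, a ∈ ball (0 : ℂ) R) →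
    (∀ Q : Polynomial ℂ, Q.natDegree < L.card → (∮ ζ in C(0, R), Q.eval ζ * k ζ / (rootsPoly L).eval ζ) = 0) →
    ∃ k' : ℂ → ℂ, DifferentiableOn ℂ k' V ∧ ∀ z, k z = (rootsPoly L).eval z * k' z := by
  induction L using Multiset.induction with
  | empty => intro k hk _ _; exact ⟨k, hk, fun z => by simp [rootsPoly]⟩
  | cons a L ih =>
    intro k hk hL hm
    have haR := hL a (Multiset.mem_cons_self a L)
    have hR : 0 < R := pos_of_mem_ball haR
    have hsph : ∀ ζ ∈ sphere (0 : ℂ) R, (rootsPoly L).eval ζ ≠ 0 := fun ζ hζ =>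
      rootsPoly_eval_ne_zero fun h => sphere_disjoint_ball.ne_of_mem hζ (hL ζ (Multiset.mem_cons_of_mem h)) rfl
    have hka : k a = 0 := by
      have h1 := (hk.mono hRV).circleIntegral_sub_inv_smul haR
      simp only [smul_eq_mul] at h1
      have h2 := hm (rootsPoly L) (by
        rw [rootsPoly, Polynomial.natDegree_multiset_prod_X_sub_C_eq_card, Multiset.card_cons]; omega)
      rw [circleIntegral.integral_congr hR.le (g := fun z => (z - a)⁻¹ * k z) fun ζ hζ => ?_, h1] at h2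
      · exact (mul_eq_zero.1 h2).resolve_left two_pi_I_ne_zero
      · have := hsph ζ hζ
        have hζa : ζ - a ≠ 0 := sub_ne_zero.2 (sphere_disjoint_ball.ne_of_mem hζ haR)
        show _ = (ζ - a)⁻¹ * k ζ
        rw [rootsPoly_cons]; field_simp
    have hk1 : DifferentiableOn ℂ (dslope k a) V :=
      (Complex.differentiableOn_dslope (hV.mem_nhds (hRV (ball_subset_closedBall haR)))).2 hk
    have hkz : ∀ z, k z = (z - a) * dslope k a z := fun z => by
      have := sub_smul_dslope k a z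
      rw [hka, sub_zero, smul_eq_mul] at this
      exact this.symm
    obtain ⟨k', hk', hkk⟩ := ih hk1 (fun b hb => hL b (Multiset.mem_cons_of_mem hb)) fun Q hQ => by
      have hm' := hm Q (hQ.trans (by rw [Multiset.card_cons]; omega))
      refine (circleIntegral.integral_congr hR.le fun ζ hζ => ?_).trans hm' 
      have := hsph ζ hζ
      have hζa : ζ - a ≠ 0 := sub_ne_zero.2 (sphere_disjoint_ball.ne_of_mem hζ haR)
      show _ = Q.eval ζ * k ζ / _
      rw [rootsPoly_cons, hkz ζ]; field_simp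
    exact ⟨k', hk', fun z => by rw [rootsPoly_cons, hkz z, hkk z, mul_assoc]⟩

variable {E : Type*} [NormedAddCommGroup E] [NormedSpace ℂ E] [FiniteDimensional ℂ E]

theorem differentiableAt_moment {F : E × ℂ → ℂ} {U : Set E} (hU : IsOpen U) {R : ℝ} (hR : 0 ≤ R)
    (hF : ∀ p ∈ U ×ˢ sphere (0 : ℂ) R, DifferentiableAt ℂ F p) {x : E} (hx : x ∈ U) :
    DifferentiableAt ℂ (fun w => ∮ ζ in C(0, R), F (w, ζ)) x :=
  differentiableAt_circleIntegral (F := fun w ζ => F (w, ζ)) hU hR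
    (fun p hp => (hF p hp).continuousAt.continuousWithinAt)
    (fun ζ hζ y hy => (DifferentiableAt.comp y (f := fun v : E => (v, ζ)) (hF (y, ζ) ⟨hy, hζ⟩)
      (by fun_prop)).differentiableWithinAt) hx

/-- Weierstrass division. -/
theorem division {g h : E × ℂ → ℂ} (hg : DiffNear g 0) (hh : DiffNear h 0) {s : ℕ} {u : ℂ → ℂ}
    (hu : AnalyticAt ℂ u 0) (hu0 : u 0 ≠ 0) (hgu : ∀ᶠ ζ in 𝓝 (0 : ℂ), g (0, ζ) = ζ ^ s * u ζ) :
    ∃ (q : E × ℂ → ℂ) (c : Fin s → E → ℂ), DiffNear q 0 ∧ (∀ j, DiffNear (c j) 0) ∧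
      ∀ᶠ p in 𝓝 (0 : E × ℂ), h p = g p * q p + ∑ j, c j p.1 * p.2 ^ (j : ℕ) := by
  classical
  have hev : ∀ᶠ p in 𝓝 (0 : E) ×ˢ 𝓝 (0 : ℂ), DifferentiableAt ℂ g p ∧ DifferentiableAt ℂ h p := by
    rw [← nhds_prod_eq]; exact hg.and hh
  obtain ⟨A, hA, B, hB, hAB⟩ := eventually_prod_iff.1 hev
  obtain ⟨δ₀, hδ₀, hδA⟩ := Metric.eventually_nhds_iff_ball.1 hA
  obtain ⟨r, hr, hrB⟩ := Metric.eventually_nhds_iff_ball.1
    (((hB.and hu.eventually_analyticAt).and (hgu.and (hu.continuousAt.eventually_ne hu0))))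
  set R := r / 2 with hR_def
  have hR : 0 < R := by positivity
  have hRV : closedBall (0 : ℂ) R ⊆ ball 0 r := closedBall_subset_ball (by rw [hR_def]; linarith)
  have hgd : ∀ p ∈ ball (0 : E) δ₀ ×ˢ ball (0 : ℂ) r, DifferentiableAt ℂ g p := fun p hp =>
    (hAB (hδA p.1 hp.1) (hrB p.2 hp.2).1.1).1
  have hhd : ∀ p ∈ ball (0 : E) δ₀ ×ˢ ball (0 : ℂ) r, DifferentiableAt ℂ h p := fun p hp =>
    (hAB (hδA p.1 hp.1) (hrB p.2 hp.2).1.1).2
  have hud : DifferentiableOn ℂ u (ball 0 r) := fun z hz => (hrB z hz).1.2.differentiableAt.differentiableWithinAt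
  have hfix : ∀ w ∈ ball (0 : E) δ₀, DifferentiableOn ℂ (fun ζ => g (w, ζ)) (ball 0 r) := fun w hw ζ hζ =>
    (DifferentiableAt.comp ζ (f := fun v : ℂ => (w, v)) (hgd (w, ζ) ⟨hw, hζ⟩) (by fun_prop)).differentiableWithinAt
  have h0w : (0 : E) ∈ ball (0 : E) δ₀ := mem_ball_self hδ₀
  -- no zeros on an annulus near the special fibre
  have hann : ∀ ρ : ℝ, 0 < ρ → ∀ᶠ w in 𝓝 (0 : E), ∀ ζ ∈ closedBall (0 : ℂ) R \ ball 0 ρ, g (w, ζ) ≠ 0 := by
    intro ρ hρ
    refine ((isCompact_closedBall (0 : ℂ) R).diff isOpen_ball).eventually_forall_of_forall_eventually ?_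
    intro ζ hζ
    have hζr : ζ ∈ ball (0 : ℂ) r := hRV hζ.1
    have h1 : g (0, ζ) ≠ 0 := by
      rw [(hrB ζ hζr).2.1]
      refine mul_ne_zero (pow_ne_zero _ fun h0 => ?_) (hrB ζ hζr).2.2
      exact hζ.2 (by simpa [h0] using hρ)
    exact (hgd (0, ζ) ⟨h0w, hζr⟩).continuousAt.eventually_ne h1
  -- bounded by `M`
  obtain ⟨M₀, hM₀⟩ := ((isCompact_closedBall (0 : E) (δ₀ / 2)).prod (isCompact_sphere (0 : ℂ) R)).exists_bound_of_continuousOn
    (f := g) fun p hp => (hgd p ⟨closedBall_subset_ball (by linarith) hp.1, hRV (sphere_subset_closedBall hp.2)⟩).continuousAt.continuousWithinAt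
  -- the fundamental coefficient
  set S : E → ℂ := fun w => ∮ ζ in C(0, R), g (w, ζ) / ζ ^ (s + 1) with hS
  have hζ0 : ∀ ζ ∈ sphere (0 : ℂ) R, ζ ≠ 0 := fun ζ hζ => ne_of_mem_sphere hζ hR.ne'
  have hS0 : S 0 = 2 * π * I * u 0 := by
    have h1 := (hud.mono hRV).circleIntegral_sub_inv_smul (mem_ball_self hR)
    simp only [smul_eq_mul, sub_zero] at h1
    rw [← h1]
    refine circleIntegral.integral_congr hR.le fun ζ hζ => ?_
    have := hζ0 ζ hζ
    show g (0, ζ) / ζ ^ (s + 1) = ζ⁻¹ * u ζ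
    rw [(hrB ζ (hRV (sphere_subset_closedBall hζ))).2.1]; field_simp; ring
  have hSc : ContinuousAt S 0 := (differentiableAt_moment (F := fun p => g p / p.2 ^ (s + 1)) isOpen_ball hR.le
    (fun p hp => (hgd p ⟨hp.1, hRV (sphere_subset_closedBall hp.2)⟩).fun_mul
      (DifferentiableAt.inv (by fun_prop) (pow_ne_zero _ (hζ0 _ hp.2)))) h0w).continuousAt
  have hT0 : (0 : ℝ) < ‖(2 * π * I * u 0 : ℂ)‖ / 2 :=
    half_pos (norm_pos_iff.2 (mul_ne_zero two_pi_I_ne_zero hu0))
  set C₀ : ℝ := |M₀| / (R / 2) ^ (s + 1) with hC₀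
  obtain ⟨ρ, hρ, hρR, hρsmall⟩ : ∃ ρ : ℝ, 0 < ρ ∧ ρ ≤ R / 2 ∧
      2 * π * R * (C₀ * ((1 + ρ / R) ^ (s + 1) - 1)) < ‖(2 * π * I * u 0 : ℂ)‖ / 2 := by
    have hc : Tendsto (fun ρ : ℝ => 2 * π * R * (C₀ * ((1 + ρ / R) ^ (s + 1) - 1))) (𝓝 0) (𝓝 0) :=
      Continuous.tendsto' (by fun_prop) _ _ (by simp)
    obtain ⟨ε, hε, hεs⟩ := Metric.eventually_nhds_iff_ball.1 (hc.eventually (eventually_lt_nhds hT0))
    refine ⟨min (ε / 2) (R / 2), lt_min (by linarith) (by linarith), min_le_right _ _, hεs _ ?_⟩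
    rw [mem_ball, dist_zero_right, Real.norm_eq_abs, abs_of_pos (lt_min (by linarith) (by linarith))]
    exact lt_of_le_of_lt (min_le_left _ _) (by linarith)
  -- the matrix of moments
  set K : Fin s → Fin s → E → ℂ := fun m j w => ∮ ζ in C(0, R), ζ ^ ((m : ℕ) + j) / g (w, ζ) with hK
  have hnear : ∀ᶠ w in 𝓝 (0 : E), w ∈ ball (0 : E) (δ₀ / 2) ∧ (∀ ζ ∈ closedBall (0 : ℂ) R \ ball 0 ρ, g (w, ζ) ≠ 0) ∧
      ‖(2 * π * I * u 0 : ℂ)‖ / 2 < ‖S w‖ :=
    (eventually_mem_nhds_iff.2 (ball_mem_nhds (0 : E) (half_pos hδ₀)) |>.mono fun w hw => mem_of_mem_nhds hw).and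
      ((hann ρ hρ).and (hSc.norm.eventually (eventually_gt_nhds (show _ < ‖S 0‖ by rw [hS0]; linarith))))
  obtain ⟨δ, hδ, hδw⟩ := Metric.eventually_nhds_iff_ball.1 hnear
  have hUδ : ∀ w ∈ ball (0 : E) δ, w ∈ ball (0 : E) δ₀ := fun w hw =>
    ball_subset_ball (by linarith) (hδw w hw).1
  have hsR : ∀ ζ ∈ sphere (0 : ℂ) R, ζ ∈ closedBall (0 : ℂ) R \ ball 0 ρ := fun ζ hζ =>
    ⟨sphere_subset_closedBall hζ, fun h => by rw [mem_ball, mem_sphere.1 hζ] at h; linarith⟩
  have hgne : ∀ w ∈ ball (0 : E) δ, ∀ ζ ∈ sphere (0 : ℂ) R, g (w, ζ) ≠ 0 := fun w hw ζ hζ =>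
    (hδw w hw).2.1 ζ (hsR ζ hζ)
  -- at most `s` zeros
  have hzeros : ∀ w ∈ ball (0 : E) δ, ∃ (L : Multiset ℂ) (v : ℂ → ℂ), L.card ≤ s ∧
      (∀ a ∈ L, a ∈ ball (0 : ℂ) R) ∧ DifferentiableOn ℂ v (ball 0 r) ∧
      (∀ z ∈ closedBall (0 : ℂ) R, v z ≠ 0) ∧ ∀ z, g (w, z) = (rootsPoly L).eval z * v z := by
    intro w hw
    rcases exists_roots isOpen_ball hRV (hfix w (hUδ w hw)) (hgne w hw) (s + 1) with
      ⟨L, v, h1, h2, h3, h4, h5⟩ | ⟨L, v, h1, h2, h3, h5⟩
    · exact ⟨L, v, Nat.lt_succ_iff.1 h1, h2, h3, h4, h5⟩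
    exfalso
    have hLρ : ∀ a ∈ L, ‖a‖ < ρ := fun a ha => by
      by_contra hlt
      refine (hδw w hw).2.1 a ⟨ball_subset_closedBall (h2 a ha), by simpa using hlt⟩ ?_
      have : (rootsPoly L).eval a = 0 := by
        obtain ⟨L', rfl⟩ := Multiset.exists_cons_of_mem ha
        rw [rootsPoly_cons, sub_self, zero_mul]
      rw [h5, this, zero_mul]
    have hv0 : (∮ ζ in C(0, R), v ζ) = 0 := (h3.diffContOnCl_ball hRV).circleIntegral_eq_zero hR.le
    have hprod : ∀ ζ ∈ sphere (0 : ℂ) R,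
        (rootsPoly L).eval ζ / ζ ^ (s + 1) = (L.map fun a => 1 + -(a / ζ)).prod := by
      intro ζ hζ
      have hne := hζ0 ζ hζ
      rw [← h1]
      clear h1 h2 h5 hLρ
      induction L using Multiset.induction with
      | empty => simp [rootsPoly]
      | cons a L ih =>
        rw [rootsPoly_cons, Multiset.card_cons, Multiset.map_cons, Multiset.prod_cons, ← ih, pow_succ]
        field_simp; ring
    have hvb : ∀ ζ ∈ sphere (0 : ℂ) R, ‖v ζ‖ ≤ C₀ := by
      intro ζ hζ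
      have hP : (R / 2) ^ (s + 1) ≤ ‖(rootsPoly L).eval ζ‖ := by
        rw [← h1]
        clear h1 h2 h5 hv0 hprod
        induction L using Multiset.induction with
        | empty => simp [rootsPoly]
        | cons a L ih =>
          rw [rootsPoly_cons, Multiset.card_cons, pow_succ', norm_mul]
          refine mul_le_mul ?_ (ih fun b hb => hLρ b (Multiset.mem_cons_of_mem hb)) (by positivity) (norm_nonneg _)
          have := norm_sub_norm_le ζ a
          have h7 := hLρ a (Multiset.mem_cons_self a L)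
          rw [mem_sphere_zero_iff_norm.1 hζ] at this
          linarith
      have hM : ‖g (w, ζ)‖ ≤ |M₀| := (hM₀ (w, ζ) ⟨ball_subset_closedBall (hδw w hw).1, hζ⟩).trans (le_abs_self _)
      rw [h5, norm_mul] at hM
      rw [hC₀, le_div_iff₀ (by positivity), mul_comm]
      exact (mul_le_mul_of_nonneg_right hP (norm_nonneg _)).trans hM
    have hSw : ‖S w‖ ≤ 2 * π * R * (C₀ * ((1 + ρ / R) ^ (s + 1) - 1)) := by
      have hvc : ContinuousOn v (sphere (0 : ℂ) R) := h3.continuousOn.mono (sphere_subset_closedBall.trans hRV)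
      have hgc : ContinuousOn (fun ζ => g (w, ζ) / ζ ^ (s + 1)) (sphere (0 : ℂ) R) :=
        (((hfix w (hUδ w hw)).continuousOn).mono (sphere_subset_closedBall.trans hRV)).div (by fun_prop)
          fun ζ hζ => pow_ne_zero _ (hζ0 ζ hζ)
      have hS' : S w = ∮ ζ in C(0, R), (g (w, ζ) / ζ ^ (s + 1) - v ζ) := by
        rw [circleIntegral.integral_sub (hgc.circleIntegrable hR.le) (hvc.circleIntegrable hR.le), hv0, sub_zero]
      rw [hS']
      refine circleIntegral.norm_integral_le_of_norm_le_const hR.le fun ζ hζ => ?_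
      rw [h5, mul_div_right_comm, hprod ζ hζ, ← sub_one_mul, norm_mul, mul_comm C₀]
      refine mul_le_mul ?_ (hvb ζ hζ) (norm_nonneg _) ?_
      · have h6 := norm_prod_one_add_sub_one_le (div_nonneg hρ.le hR.le) (L := L) (c := fun a => -(a / ζ))
          fun a ha => by
            rw [norm_neg, norm_div, mem_sphere_zero_iff_norm.1 hζ]
            exact div_le_div_of_nonneg_right (hLρ a ha).le hR.le
        rwa [h1] at h6
      · exact sub_nonneg.2 (one_le_pow₀ (le_add_of_nonneg_right (div_nonneg hρ.le hR.le)))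
    linarith [(hδw w hw).2.2]
  -- solving for the remainder
  have hFd : ∀ k : E × ℂ → ℂ, (∀ p ∈ ball (0 : E) δ ×ˢ sphere (0 : ℂ) R, DifferentiableAt ℂ k p) →
      ∀ w ∈ ball (0 : E) δ, DifferentiableAt ℂ (fun w => ∮ ζ in C(0, R), k (w, ζ) / g (w, ζ)) w :=
    fun k hk w hw => differentiableAt_moment (F := fun p => k p / g p) isOpen_ball hR.le
      (fun p hp => (hk p hp).fun_mul
        ((hgd p ⟨hUδ _ hp.1, hRV (sphere_subset_closedBall hp.2)⟩).inv (hgne _ hp.1 _ hp.2))) hw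
  have hKd : ∀ m j, ∀ w ∈ ball (0 : E) δ, DifferentiableAt ℂ (K m j) w := fun m j =>
    hFd (fun p => p.2 ^ ((m : ℕ) + j)) fun p _ => by fun_prop
  set b : Fin s → E → ℂ := fun m w => ∮ ζ in C(0, R), h (w, ζ) * ζ ^ (m : ℕ) / g (w, ζ) with hb
  have hbd : ∀ m, ∀ w ∈ ball (0 : E) δ, DifferentiableAt ℂ (b m) w := fun m =>
    hFd (fun p => h p * p.2 ^ (m : ℕ)) fun p hp =>
      (hhd p ⟨hUδ _ hp.1, hRV (sphere_subset_closedBall hp.2)⟩).fun_mul (by fun_prop)
  set MK : E → Matrix (Fin s) (Fin s) ℂ := fun w => Matrix.of fun m j => K m j w with hMK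
  have hK0 : ∀ m j : Fin s, (s ≤ (m : ℕ) + j → K m j 0 = 0) ∧ ((m : ℕ) + j + 1 = s → K m j 0 ≠ 0) := by
    intro m j
    have huinv : DifferentiableOn ℂ (fun z => (u z)⁻¹) (ball 0 r) := hud.fun_inv fun z hz => (hrB z hz).2.2
    constructor
    · intro hle
      have heq : K m j 0 = ∮ ζ in C(0, R), ζ ^ ((m : ℕ) + j - s) * (u ζ)⁻¹ := by
        refine circleIntegral.integral_congr hR.le fun ζ hζ => ?_
        have := hζ0 ζ hζ
        have := (hrB ζ (hRV (sphere_subset_closedBall hζ))).2.2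
        show ζ ^ ((m : ℕ) + j) / g (0, ζ) = _
        rw [(hrB ζ (hRV (sphere_subset_closedBall hζ))).2.1]
        conv_lhs => rw [show (m : ℕ) + j = ((m : ℕ) + j - s) + s from (Nat.sub_add_cancel hle).symm, pow_add]
        field_simp
      rw [heq]
      exact (DifferentiableOn.diffContOnCl_ball (U := ball (0 : ℂ) r) (by fun_prop) hRV).circleIntegral_eq_zero hR.le
    · intro he
      have h1 := (huinv.mono hRV).circleIntegral_sub_inv_smul (mem_ball_self hR)
      simp only [smul_eq_mul, sub_zero] at h1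
      have heq : K m j 0 = 2 * π * I * (u 0)⁻¹ := by
        rw [← h1]
        refine circleIntegral.integral_congr hR.le fun ζ hζ => ?_
        have := hζ0 ζ hζ
        have := (hrB ζ (hRV (sphere_subset_closedBall hζ))).2.2
        show ζ ^ ((m : ℕ) + j) / g (0, ζ) = _
        rw [(hrB ζ (hRV (sphere_subset_closedBall hζ))).2.1,
          show ζ ^ s = ζ ^ ((m : ℕ) + j) * ζ by rw [← pow_succ, he]]
        field_simp
      rw [heq]
      exact mul_ne_zero two_pi_I_ne_zero (inv_ne_zero hu0)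
  have hdet : (MK 0).det ≠ 0 := by
    rw [← isUnit_iff_ne_zero, ← Matrix.isUnit_iff_isUnit_det, ← Matrix.mulVec_injective_iff_isUnit]
    have hz : ∀ v : Fin s → ℂ, (MK 0).mulVec v = 0 → v = 0 := by
      intro v hv
      suffices ∀ k (j : Fin s), (j : ℕ) < k → v j = 0 from funext fun j => this _ j (Nat.lt_succ_self _)
      intro k
      induction k with
      | zero => intro j hj; omega
      | succ k ih =>
        intro j hj
        rcases Nat.lt_succ_iff_lt_or_eq.1 hj with h | h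
        · exact ih j h
        have hjs := j.2
        set m : Fin s := ⟨s - 1 - j, by omega⟩
        have h1 := congrFun hv m
        rw [Matrix.mulVec, dotProduct, Finset.sum_eq_single j] at h1
        · exact (mul_eq_zero.1 h1).resolve_left ((hK0 m j).2 (by show s - 1 - (j : ℕ) + j + 1 = s; omega))
        · intro i _ hi
          rcases lt_or_gt_of_ne (Fin.val_ne_of_ne hi) with h' | h'
          · rw [ih i (by omega), mul_zero]
          · rw [show MK 0 m i = 0 from (hK0 m i).1 (by show s ≤ s - 1 - (j : ℕ) + i; omega), zero_mul]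
        · exact fun h' => absurd (Finset.mem_univ j) h'
    intro x y hxy
    exact sub_eq_zero.1 (hz _ (by rw [Matrix.mulVec_sub, hxy, sub_self]))
  have hMd : ∀ i j, ∀ w ∈ ball (0 : E) δ, DifferentiableAt ℂ (fun w => MK w i j) w := hKd
  have hdetd : ∀ (A : E → Matrix (Fin s) (Fin s) ℂ) (w : E), (∀ i j, DifferentiableAt ℂ (fun w => A w i j) w) →
      DifferentiableAt ℂ (fun w => (A w).det) w := by
    intro A w hA
    simp only [Matrix.det_apply']
    refine DifferentiableAt.fun_sum fun σ _ => (differentiableAt_const _).fun_mul ?_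
    exact (HasFDerivAt.finset_prod fun i _ => (hA (σ i) i).hasFDerivAt).differentiableAt
  obtain ⟨δ', hδ', hδ'w⟩ := Metric.eventually_nhds_iff_ball.1
    ((Metric.eventually_nhds_iff_ball.2 ⟨δ, hδ, fun w hw => hw⟩ : ∀ᶠ w in 𝓝 (0 : E), w ∈ ball (0 : E) δ).and
      ((hdetd MK 0 fun i j => hMd i j 0 (mem_ball_self hδ)).continuousAt.eventually_ne hdet))
  set c : Fin s → E → ℂ := fun j w => ((MK w).adjugate.mulVec fun m => b m w) j / (MK w).det with hc
  have hcd : ∀ j, ∀ w ∈ ball (0 : E) δ', DifferentiableAt ℂ (c j) w := by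
    intro j w hw
    obtain ⟨hwδ, hdw⟩ := hδ'w w hw
    refine DifferentiableAt.fun_mul ?_ ((hdetd MK w fun i j => hMd i j w hwδ).inv hdw)
    simp only [Matrix.mulVec, dotProduct, Matrix.adjugate_apply]
    refine DifferentiableAt.fun_sum fun i _ => DifferentiableAt.fun_mul (hdetd _ _ fun a a' => ?_) (hbd i w hwδ)
    simp only [Matrix.updateRow_apply]
    split_ifs
    · exact differentiableAt_const _
    · exact hMd a a' w hwδ
  set H : E × ℂ → ℂ := fun p => h p - ∑ j, c j p.1 * p.2 ^ (j : ℕ) with hH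
  have hHd : ∀ p ∈ ball (0 : E) δ' ×ˢ ball (0 : ℂ) r, DifferentiableAt ℂ H p := fun p hp =>
    (hhd p ⟨hUδ _ (hδ'w _ hp.1).1, hp.2⟩).fun_sub <| DifferentiableAt.fun_sum fun j _ =>
      (DifferentiableAt.comp p (f := Prod.fst) (hcd j p.1 hp.1) differentiableAt_fst).fun_mul (by fun_prop)
  set q : E × ℂ → ℂ := fun p => (2 * π * I)⁻¹ * ∮ ζ in C(0, R), H (p.1, ζ) / (g (p.1, ζ) * (ζ - p.2))
  have hW : IsOpen (ball (0 : E) δ' ×ˢ ball (0 : ℂ) R) := isOpen_ball.prod isOpen_ball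
  have hqd : ∀ p ∈ ball (0 : E) δ' ×ˢ ball (0 : ℂ) R, DifferentiableAt ℂ q p := fun p hp =>
    (differentiableAt_const _).fun_mul <| differentiableAt_moment (E := E × ℂ)
      (F := fun a : (E × ℂ) × ℂ => H (a.1.1, a.2) / (g (a.1.1, a.2) * (a.2 - a.1.2))) hW hR.le
      (fun a ha => by
        have hz : a.2 ∈ ball (0 : ℂ) r := hRV (sphere_subset_closedBall ha.2)
        have hw := (hδ'w _ ha.1.1).1
        refine DifferentiableAt.fun_mul (DifferentiableAt.comp a (f := fun a : (E × ℂ) × ℂ => (a.1.1, a.2))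
          (hHd (a.1.1, a.2) ⟨ha.1.1, hz⟩) (by fun_prop)) (DifferentiableAt.inv ?_ ?_)
        · exact (DifferentiableAt.comp a (f := fun a : (E × ℂ) × ℂ => (a.1.1, a.2))
            (hgd (a.1.1, a.2) ⟨hUδ _ hw, hz⟩) (by fun_prop)).fun_mul (by fun_prop)
        · exact mul_ne_zero (hgne _ hw _ ha.2) (sub_ne_zero.2 (sphere_disjoint_ball.ne_of_mem ha.2 ha.1.2))) hp
  refine ⟨q, c, ?_, fun j => ?_, ?_⟩
  · exact (hW.eventually_mem ⟨mem_ball_self hδ', mem_ball_self hR⟩).mono hqd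
  · exact (isOpen_ball.eventually_mem (mem_ball_self hδ')).mono (hcd j)
  filter_upwards [hW.eventually_mem (x := (0 : E × ℂ)) ⟨mem_ball_self hδ', mem_ball_self hR⟩] with p hp
  obtain ⟨w, z⟩ := p
  obtain ⟨hwδ, hdw⟩ := hδ'w w hp.1
  obtain ⟨L, v, hL, hLR, hv, hvne, hgv⟩ := hzeros w hwδ
  have hHw : DifferentiableOn ℂ (fun ζ => H (w, ζ)) (ball 0 r) := fun ζ hζ =>
    (DifferentiableAt.comp ζ (f := fun v : ℂ => (w, v)) (hHd (w, ζ) ⟨hp.1, hζ⟩) (by fun_prop)).differentiableWithinAt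
  have hmom : ∀ m : Fin s, (∮ ζ in C(0, R), H (w, ζ) * ζ ^ (m : ℕ) / g (w, ζ)) = 0 := by
    intro m
    have hsol : (MK w).mulVec (fun j => c j w) = fun m => b m w := by
      have h1 : (fun j => c j w) = (MK w).det⁻¹ • (MK w).adjugate.mulVec fun m => b m w :=
        funext fun j => by simp only [hc, Pi.smul_apply, smul_eq_mul, div_eq_inv_mul]
      rw [h1, Matrix.mulVec_smul, Matrix.mulVec_mulVec, Matrix.mul_adjugate, Matrix.smul_mulVec,
        Matrix.one_mulVec, smul_smul, inv_mul_cancel₀ hdw, one_smul]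
    have hgc : ContinuousOn (fun ζ => g (w, ζ)) (sphere (0 : ℂ) R) :=
      (hfix w (hUδ w hwδ)).continuousOn.mono (sphere_subset_closedBall.trans hRV)
    have hhc : ContinuousOn (fun ζ => h (w, ζ)) (sphere (0 : ℂ) R) := fun ζ hζ =>
      (ContinuousAt.comp (g := h) (f := fun v : ℂ => (w, v)) (hhd (w, ζ) ⟨hUδ w hwδ,
        hRV (sphere_subset_closedBall hζ)⟩).continuousAt (by fun_prop)).continuousWithinAt
    have hint : ∀ j : Fin s, CircleIntegrable (fun ζ => c j w * (ζ ^ ((m : ℕ) + j) / g (w, ζ))) 0 R := fun j =>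
      (continuousOn_const.mul ((Continuous.continuousOn (by fun_prop)).div hgc (hgne w hwδ))).circleIntegrable hR.le
    have h2 : (∮ ζ in C(0, R), H (w, ζ) * ζ ^ (m : ℕ) / g (w, ζ)) =
        b m w - ∑ j, c j w * K m j w := by
      simp only [hb, hK, ← circleIntegral.integral_const_mul]
      have hI : CircleIntegrable (fun ζ => h (w, ζ) * ζ ^ (m : ℕ) / g (w, ζ)) 0 R :=
        ((hhc.mul (continuous_pow (m : ℕ)).continuousOn).div hgc (hgne w hwδ)).circleIntegrable hR.le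
      rw [← circleIntegral.integral_fun_sum fun j _ => hint j, ← circleIntegral.integral_sub hI
        (CircleIntegrable.fun_sum Finset.univ fun j _ => hint j)]
      refine circleIntegral.integral_congr hR.le fun ζ _ => ?_
      simp only [hH, sub_mul, sub_div, Finset.sum_mul, Finset.sum_div]
      refine congrArg _ (Finset.sum_congr rfl fun j _ => ?_)
      rw [pow_add]; ring
    rw [h2, ← congrFun hsol m]
    simp only [Matrix.mulVec, dotProduct, hMK, Matrix.of_apply]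
    rw [sub_eq_zero]
    exact Finset.sum_congr rfl fun j _ => mul_comm _ _
  set V' : Set ℂ := ball 0 r ∩ v ⁻¹' {0}ᶜ
  have hV' : IsOpen V' := hv.continuousOn.isOpen_inter_preimage isOpen_ball isOpen_compl_singleton
  have hRV' : closedBall (0 : ℂ) R ⊆ V' := fun x hx => ⟨hRV hx, hvne x hx⟩
  obtain ⟨k', hk', hkk⟩ := dvd_of_moments hV' hRV' L (k := fun ζ => H (w, ζ) / v ζ)
    ((hHw.mono inter_subset_left).div (hv.mono inter_subset_left) fun x hx => hx.2) hLR fun Q hQ => by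
    have hQs : Q.natDegree < s := lt_of_lt_of_le hQ hL
    have hPne : ∀ ζ ∈ sphere (0 : ℂ) R, (rootsPoly L).eval ζ ≠ 0 := fun ζ hζ =>
      rootsPoly_eval_ne_zero fun h' => sphere_disjoint_ball.ne_of_mem hζ (hLR ζ h') rfl
    have h3 : (∮ ζ in C(0, R), Q.eval ζ * (H (w, ζ) / v ζ) / (rootsPoly L).eval ζ) =
        ∮ ζ in C(0, R), ∑ m : Fin s, Q.coeff m * (H (w, ζ) * ζ ^ (m : ℕ) / g (w, ζ)) := by
      refine circleIntegral.integral_congr hR.le fun ζ hζ => ?_
      show _ = _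
      rw [hgv, Polynomial.eval_eq_sum_range' hQs, Fin.sum_univ_eq_sum_range
        (fun m => Q.coeff m * (H (w, ζ) * ζ ^ m / ((rootsPoly L).eval ζ * v ζ))) s, Finset.sum_mul, Finset.sum_div]
      refine Finset.sum_congr rfl fun m _ => ?_
      have := hPne ζ hζ
      have := hvne ζ (sphere_subset_closedBall hζ)
      field_simp
    rw [h3, circleIntegral.integral_fun_sum fun m _ => ?_]
    · simp [circleIntegral.integral_const_mul, hmom]
    · exact (continuousOn_const.mul (((hHw.continuousOn.mono (sphere_subset_closedBall.trans hRV)).mul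
        (by fun_prop)).div ((hfix w (hUδ w hwδ)).continuousOn.mono (sphere_subset_closedBall.trans hRV))
          (hgne w hwδ))).circleIntegrable hR.le
  have hHk : ∀ x ∈ V', H (w, x) = g (w, x) * k' x := fun x hx => by
    have h4 : H (w, x) / v x = (rootsPoly L).eval x * k' x := hkk x
    rw [div_eq_iff (hx.2 : v x ≠ 0)] at h4
    rw [h4, hgv]; ring
  have hqk : q (w, z) = k' z := by
    have h5 := (hk'.mono hRV').circleIntegral_sub_inv_smul hp.2
    simp only [smul_eq_mul] at h5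
    show (2 * π * I)⁻¹ * (∮ ζ in C(0, R), H (w, ζ) / (g (w, ζ) * (ζ - z))) = _
    rw [circleIntegral.integral_congr hR.le (g := fun ζ => (ζ - z)⁻¹ * k' ζ) fun ζ hζ => ?_, h5, ← mul_assoc,
      inv_mul_cancel₀ two_pi_I_ne_zero, one_mul]
    have := hgne w hwδ ζ hζ
    show H (w, ζ) / (g (w, ζ) * (ζ - z)) = (ζ - z)⁻¹ * k' ζ
    rw [hHk ζ (hRV' (sphere_subset_closedBall hζ))]; field_simp
  rw [hqk, ← hHk z (hRV' (ball_subset_closedBall hp.2))]
  simp only [hH, sub_add_cancel]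

end AnStalkLib
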